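/-
Block labels of compositions, count matrices of permutations (margins), and Young double cosets.
-/
import Mathlib
import Cfsg.Prelude.Def_LinearParabolics

namespace CfsgLib.GLFlags

open Cfsg

variable {n : ℕ}

/-- Sum of the first `b` parts of a composition. -/
def psum (μ : Fin n → ℕ) (b : ℕ) : ℕ := ∑ k ∈ Finset.univ.filter (fun k : Fin n => k.val < b), μ k

theorem psum_mono (μ : Fin n → ℕ) {a b : ℕ} (h : a ≤ b) : psum μ a ≤ psum μ b := by
  refine Finset.sum_le_sum_of_subset fun k hk => ?_
  simp only [Finset.mem_filter, Finset.mem_univ, true_and] at hk ⊢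
  omega

theorem psum_succ (μ : Fin n → ℕ) (b : Fin n) : psum μ (b.val + 1) = psum μ b.val + μ b := by
  have h : Finset.univ.filter (fun k : Fin n => k.val < b.val + 1) =
      insert b (Finset.univ.filter (fun k : Fin n => k.val < b.val)) := by
    ext k
    simp only [Finset.mem_filter, Finset.mem_univ, true_and, Finset.mem_insert, Fin.ext_iff]
    omega
  rw [psum, psum, h, Finset.sum_insert (by simp), add_comm]

theorem psum_self (μ : Fin n → ℕ) : psum μ n = ∑ i, μ i := by
  unfold psum
  rw [Finset.filter_true_of_mem fun k _ => k.2]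

theorem card_filter_val_lt {m : ℕ} (hm : m ≤ n) :
    (Finset.univ.filter (fun i : Fin n => i.val < m)).card = m := by
  rw [show Finset.univ.filter (fun i : Fin n => i.val < m) =
    (Finset.univ : Finset (Fin m)).map (Fin.castLEEmb hm) from ?_]
  · simp
  · ext i
    simp only [Finset.mem_filter, Finset.mem_univ, true_and, Finset.mem_map]
    exact ⟨fun h => ⟨⟨i.val, h⟩, rfl⟩, fun ⟨a, ha⟩ => ha ▸ a.2⟩

theorem compLabel_eq_psum (μ : Fin n → ℕ) (i : Fin n) :
    compLabel μ i = (Finset.univ.filter fun j : Fin n => psum μ (j.val + 1) ≤ i.val).card := by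
  unfold compLabel psum
  refine congrArg Finset.card (Finset.filter_congr fun j _ => ?_)
  have h : Finset.univ.filter (fun k : Fin n => k ≤ j) =
      Finset.univ.filter (fun k : Fin n => k.val < j.val + 1) :=
    Finset.filter_congr fun k _ => by rw [Nat.lt_succ_iff, Fin.le_def]
  rw [h]

theorem le_compLabel_iff (μ : Fin n → ℕ) (i : Fin n) {b : ℕ} (hb : b ≤ n) :
    b ≤ compLabel μ i ↔ psum μ b ≤ i.val := by
  rw [compLabel_eq_psum]
  rcases Nat.eq_zero_or_pos b with rfl | hb0
  · simp [psum]
  constructor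
  · intro h
    by_contra hcon
    push Not at hcon
    have hsub : (Finset.univ.filter fun j : Fin n => psum μ (j.val + 1) ≤ i.val) ⊆
        Finset.univ.filter (fun j : Fin n => j.val < b - 1) := by
      intro j hj
      simp only [Finset.mem_filter, Finset.mem_univ, true_and] at hj ⊢
      by_contra hjb
      have := psum_mono μ (a := b) (b := j.val + 1) (by omega)
      omega
    have := (Finset.card_le_card hsub).trans_eq (card_filter_val_lt (by omega : b - 1 ≤ n))
    omega
  · intro h
    refine le_of_eq_of_le (card_filter_val_lt hb).symm (Finset.card_le_card fun j hj => ?_)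
    simp only [Finset.mem_filter, Finset.mem_univ, true_and] at hj ⊢
    exact (psum_mono μ (by omega)).trans h

theorem compLabel_lt {μ : Fin n → ℕ} (hμ : ∑ i, μ i = n) (i : Fin n) : compLabel μ i < n := by
  by_contra h
  push Not at h
  have := (le_compLabel_iff μ i le_rfl).mp h
  rw [psum_self, hμ] at this
  exact absurd this (not_le.mpr i.2)

/-- The block label as an element of `Fin n`. -/
def label {μ : Fin n → ℕ} (hμ : ∑ i, μ i = n) (i : Fin n) : Fin n :=
  ⟨compLabel μ i, compLabel_lt hμ i⟩

theorem label_mono {μ : Fin n → ℕ} (hμ : ∑ i, μ i = n) : Monotone (label hμ) := by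
  intro i j hij
  rw [Fin.le_def]
  exact (le_compLabel_iff μ j (compLabel_lt hμ i).le).mpr
    (((le_compLabel_iff μ i (compLabel_lt hμ i).le).mp le_rfl).trans (Fin.le_def.mp hij))

theorem card_label_lt {μ : Fin n → ℕ} (hμ : ∑ i, μ i = n) {b : ℕ} (hb : b ≤ n) :
    (Finset.univ.filter fun i : Fin n => (label hμ i).val < b).card = psum μ b := by
  rw [show (Finset.univ.filter fun i : Fin n => (label hμ i).val < b) =
    Finset.univ.filter (fun i : Fin n => i.val < psum μ b) from ?_]
  · exact card_filter_val_lt ((psum_mono μ hb).trans_eq (by rw [psum_self, hμ]))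
  · refine Finset.filter_congr fun i _ => ?_
    rw [← not_le, ← not_le]
    exact not_congr (le_compLabel_iff μ i hb)

theorem card_fiber {μ : Fin n → ℕ} (hμ : ∑ i, μ i = n) (b : Fin n) :
    (Finset.univ.filter fun i : Fin n => label hμ i = b).card = μ b := by
  classical
  have h1 := card_label_lt hμ (b := b.val + 1) b.2
  have h2 := card_label_lt hμ (b := b.val) b.2.le
  have h3 : (Finset.univ.filter fun i : Fin n => (label hμ i).val < b.val + 1) =
      (Finset.univ.filter fun i : Fin n => (label hμ i).val < b.val) ∪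
        (Finset.univ.filter fun i : Fin n => label hμ i = b) := by
    ext i
    simp only [Finset.mem_filter, Finset.mem_univ, true_and, Finset.mem_union, Fin.ext_iff]
    omega
  rw [h3, Finset.card_union_of_disjoint, h2, psum_succ] at h1
  · omega
  · rw [Finset.disjoint_filter]
    intro i _ hi hi'
    rw [hi'] at hi
    exact lt_irrefl _ hi

/-- The matrices of natural numbers with prescribed row and column sums. -/
abbrev Marg (α β : Fin n → ℕ) : Type :=
  {N : Fin n → Fin n → ℕ // (∀ a, ∑ b, N a b = α a) ∧ ∀ b, ∑ a, N a b = β b}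

section Count

variable {κ : Type*} [DecidableEq κ]

/-- How many positions go from label `b` to label `a`. -/
def countMat (f g : Fin n → Fin n) (σ : Equiv.Perm (Fin n)) (a b : Fin n) : ℕ :=
  (Finset.univ.filter fun j => g j = b ∧ f (σ j) = a).card

theorem exists_perm_of_fibre (u v : Fin n → κ)
    (h : ∀ c, (Finset.univ.filter fun j => u j = c).card = (Finset.univ.filter fun j => v j = c).card) :
    ∃ π : Equiv.Perm (Fin n), ∀ j, v (π j) = u j := by
  classical
  have e : ∀ c, {j // u j = c} ≃ {j // v j = c} := fun c => Fintype.equivOfCardEq (by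
    rw [Fintype.card_subtype, Fintype.card_subtype, h c])
  exact ⟨Equiv.ofFiberEquiv e, fun j => Equiv.ofFiberEquiv_map e j⟩

theorem countMat_eq_iff (f g : Fin n → Fin n) (σ τ : Equiv.Perm (Fin n)) :
    countMat f g σ = countMat f g τ ↔ ∃ ρ π : Equiv.Perm (Fin n),
      (∀ i, f (ρ i) = f i) ∧ (∀ j, g (π j) = g j) ∧ τ = ρ * σ * π := by
  classical
  constructor
  · intro h
    obtain ⟨π, hπ⟩ := exists_perm_of_fibre (fun j => (g j, f (τ j))) (fun j => (g j, f (σ j)))
      (fun c => by
        obtain ⟨b, a⟩ := c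
        simp only [Prod.mk.injEq]
        exact (congrFun (congrFun h a) b).symm)
    simp only [Prod.mk.injEq] at hπ
    refine ⟨τ * π⁻¹ * σ⁻¹, π, fun i => ?_, fun j => (hπ j).1, by group⟩
    have := (hπ (π⁻¹ (σ⁻¹ i))).2
    simpa [Equiv.Perm.mul_apply] using this.symm
  · rintro ⟨ρ, π, hρ, hπ, rfl⟩
    funext a b
    symm
    refine Finset.card_bij' (fun j _ => π j) (fun j _ => π⁻¹ j) ?_ ?_ ?_ ?_
    · intro j hj
      simp only [Finset.mem_filter, Finset.mem_univ, true_and, Equiv.Perm.mul_apply, hρ] at hj ⊢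
      exact ⟨(hπ j).trans hj.1, hj.2⟩
    · intro j hj
      simp only [Finset.mem_filter, Finset.mem_univ, true_and, Equiv.Perm.mul_apply, hρ] at hj ⊢
      have := hπ (π⁻¹ j)
      simp only [Equiv.Perm.coe_inv, Equiv.apply_symm_apply] at this ⊢
      exact ⟨this.symm.trans hj.1, hj.2⟩
    · intro j _; simp
    · intro j _; simp

theorem sum_countMat_right (f g : Fin n → Fin n) (σ : Equiv.Perm (Fin n)) (a : Fin n) :
    ∑ b, countMat f g σ a b = (Finset.univ.filter fun i => f i = a).card := by
  classical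
  have h := (Finset.card_eq_sum_card_fiberwise (f := g) (t := (Finset.univ : Finset (Fin n)))
    (s := Finset.univ.filter fun j => f (σ j) = a) fun j _ => Finset.mem_univ _).symm
  rw [show ∑ b, countMat f g σ a b = _ from (Finset.sum_congr rfl fun b _ => ?_).trans h]
  · refine Finset.card_bij' (fun j _ => σ j) (fun j _ => σ⁻¹ j) ?_ ?_ ?_ ?_ <;> intro j hj <;> simp_all
  · rw [countMat, Finset.filter_filter]
    exact congrArg Finset.card (Finset.filter_congr fun j _ => and_comm)

theorem sum_countMat_left (f g : Fin n → Fin n) (σ : Equiv.Perm (Fin n)) (b : Fin n) :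
    ∑ a, countMat f g σ a b = (Finset.univ.filter fun j => g j = b).card := by
  classical
  have h := (Finset.card_eq_sum_card_fiberwise (f := fun j => f (σ j)) (t := (Finset.univ : Finset (Fin n)))
    (s := Finset.univ.filter fun j => g j = b) fun j _ => Finset.mem_univ _).symm
  rw [show ∑ a, countMat f g σ a b = _ from (Finset.sum_congr rfl fun a _ => ?_).trans h]
  rw [countMat, Finset.filter_filter]

theorem exists_countMat_eq (f g : Fin n → Fin n) (N : Fin n → Fin n → ℕ)
    (hr : ∀ a, ∑ b, N a b = (Finset.univ.filter fun i => f i = a).card)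
    (hc : ∀ b, ∑ a, N a b = (Finset.univ.filter fun j => g j = b).card) :
    ∃ σ, countMat f g σ = N := by
  classical
  let S := Σ x : Fin n × Fin n, Fin (N x.1 x.2)
  have hS : ∀ (p : Fin n × Fin n → Prop) [DecidablePred p],
      Fintype.card {s : S // p s.1} = ∑ x ∈ Finset.univ.filter p, N x.1 x.2 := by
    intro p _
    rw [Fintype.card_subtype, show (Finset.univ.filter fun s : S => p s.1) =
      (Finset.univ.filter p).sigma (fun _ => Finset.univ) from Finset.ext fun s => by
        rw [Finset.mem_filter, Finset.mem_sigma, Finset.mem_filter]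
        simp only [Finset.mem_univ, true_and, and_true]]
    rw [Finset.card_sigma]
    simp only [Finset.card_univ, Fintype.card_fin]
  have e₁ : ∀ b, {j // g j = b} ≃ {s : S // s.1.2 = b} := fun b => Fintype.equivOfCardEq (by
    rw [Fintype.card_subtype, ← hc b, hS (fun x => x.2 = b)]
    refine Finset.sum_bij' (fun a _ => (a, b)) (fun x _ => x.1) ?_ ?_ ?_ ?_ ?_ <;> simp
    )
  have e₂ : ∀ a, {s : S // s.1.1 = a} ≃ {i // f i = a} := fun a => Fintype.equivOfCardEq (by
    rw [Fintype.card_subtype (fun i => f i = a), ← hr a, hS (fun x => x.1 = a)]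
    symm
    refine Finset.sum_bij' (fun b _ => (a, b)) (fun x _ => x.2) ?_ ?_ ?_ ?_ ?_ <;> simp
    )
  refine ⟨(Equiv.ofFiberEquiv e₁).trans (Equiv.ofFiberEquiv e₂), ?_⟩
  funext a b
  have h := hS (fun x => x = (a, b))
  rw [Finset.filter_eq', if_pos (Finset.mem_univ _), Finset.sum_singleton] at h
  rw [← h, countMat, ← Fintype.card_subtype]
  refine Fintype.card_congr ((Equiv.ofFiberEquiv e₁).subtypeEquiv fun j => ?_)
  have h1 := Equiv.ofFiberEquiv_map e₁ j
  have h2 := Equiv.ofFiberEquiv_map e₂ (Equiv.ofFiberEquiv e₁ j)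
  rw [Equiv.trans_apply, h2, ← h1, Prod.ext_iff]
  exact and_comm

end Count

/-- Two surjections with the same kernel have equinumerous targets. -/
theorem card_eq_of_same_kernel {A B C : Type*} (φ : A → B) (ψ : A → C)
    (hφ : Function.Surjective φ) (hψ : Function.Surjective ψ)
    (h : ∀ x y, φ x = φ y ↔ ψ x = ψ y) : Nat.card B = Nat.card C := by
  refine Nat.card_eq_of_bijective (fun b => ψ (Function.surjInv hφ b)) ⟨fun b b' hb => ?_, fun c => ?_⟩
  · have := (h _ _).mpr hb
    rwa [Function.surjInv_eq hφ, Function.surjInv_eq hφ] at this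
  · obtain ⟨a, rfl⟩ := hψ c
    exact ⟨φ a, (h _ _).mp (Function.surjInv_eq hφ _)⟩

/-- The count matrix of a permutation, as an element of `Marg`. -/
def margOf {α β : Fin n → ℕ} (hα : ∑ i, α i = n) (hβ : ∑ i, β i = n) (σ : Equiv.Perm (Fin n)) :
    Marg α β :=
  ⟨countMat (label hα) (label hβ) σ, fun a => by rw [sum_countMat_right, card_fiber],
    fun b => by rw [sum_countMat_left, card_fiber]⟩

theorem margOf_surjective {α β : Fin n → ℕ} (hα : ∑ i, α i = n) (hβ : ∑ i, β i = n) :
    Function.Surjective (margOf hα hβ) := by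
  rintro ⟨N, hr, hc⟩
  obtain ⟨σ, hσ⟩ := exists_countMat_eq (label hα) (label hβ) N
    (fun a => by rw [card_fiber]; exact hr a) (fun b => by rw [card_fiber]; exact hc b)
  exact ⟨σ, Subtype.ext hσ⟩

theorem mem_youngSubgroup_iff {μ : Fin n → ℕ} (hμ : ∑ i, μ i = n) {ρ : Equiv.Perm (Fin n)} :
    ρ ∈ youngSubgroup μ ↔ ∀ i, label hμ (ρ i) = label hμ i := by
  show (∀ i, compLabel μ (ρ i) = compLabel μ i) ↔ _
  simp [label, Fin.ext_iff]

/-- Young double cosets correspond to matrices with the given margins. -/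
theorem card_young_doubleCosets {α β : Fin n → ℕ} (hα : ∑ i, α i = n) (hβ : ∑ i, β i = n) :
    Nat.card (DoubleCoset.Quotient (youngSubgroup α : Set (Equiv.Perm (Fin n)))
      (youngSubgroup β : Set (Equiv.Perm (Fin n)))) = Nat.card (Marg α β) := by
  refine card_eq_of_same_kernel (DoubleCoset.mk (youngSubgroup α) (youngSubgroup β)) (margOf hα hβ)
    (fun q => ⟨Quotient.out q, DoubleCoset.out_eq' _ _ q⟩) (margOf_surjective hα hβ) fun σ τ => ?_
  rw [DoubleCoset.eq, margOf, margOf, Subtype.mk.injEq, countMat_eq_iff]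
  constructor
  · rintro ⟨h, hh, k, hk, e⟩
    exact ⟨h, k, (mem_youngSubgroup_iff hα).mp hh, (mem_youngSubgroup_iff hβ).mp hk, e⟩
  · rintro ⟨h, k, hh, hk, e⟩
    exact ⟨h, (mem_youngSubgroup_iff hα).mpr hh, k, (mem_youngSubgroup_iff hβ).mpr hk, e⟩

end CfsgLib.GLFlags
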