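/-
Bruhat decomposition of GL_n, parabolic double cosets, and inner products of flag permutation characters.
-/
import Mathlib
import Cfsg.Agent.Lib.GLFlags.Label
import Cfsg.Agent.Lib.CharTheory.PermChar
import Cfsg.Prelude.Def_Characters

namespace CfsgLib.GLFlags

open Cfsg Matrix

variable {n : ℕ} {F : Type*} [Field F]

/-- The permutation matrix, as an element of the general linear group: `e_j ↦ e_(σ j)`. -/
noncomputable def permGL : Equiv.Perm (Fin n) →* GL (Fin n) F :=
  (permMatrixHom (n := Fin n) (R := F)).toHomUnits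

theorem permGL_apply (σ : Equiv.Perm (Fin n)) (i j : Fin n) :
    (permGL σ : GL (Fin n) F).1 i j = if σ⁻¹ i = j then 1 else 0 := by
  show (σ⁻¹).permMatrix F i j = _
  rw [Equiv.Perm.permMatrix, PEquiv.toMatrix_apply, Equiv.toPEquiv_apply]
  simp only [Option.mem_some_iff]

theorem permGL_mulVec (σ : Equiv.Perm (Fin n)) (v : Fin n → F) :
    (permGL σ : GL (Fin n) F).1 *ᵥ v = v ∘ (σ⁻¹ : Equiv.Perm (Fin n)) :=
  Matrix.permMatrix_mulVec _

theorem permGL_mul_apply (σ : Equiv.Perm (Fin n)) (M : Matrix (Fin n) (Fin n) F) (i j : Fin n) :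
    ((permGL σ : GL (Fin n) F).1 * M) i j = M (σ⁻¹ i) j := by
  rw [Matrix.mul_apply, Finset.sum_eq_single (σ⁻¹ i) ?_ (by simp), permGL_apply, if_pos rfl, one_mul]
  intro k _ hk
  rw [permGL_apply, if_neg (Ne.symm hk), zero_mul]

theorem mem_parabolicGL_iff {μ : Fin n → ℕ} (hμ : ∑ i, μ i = n) {g : GL (Fin n) F} :
    g ∈ parabolicGL n F μ ↔ ∀ i j, label hμ j < label hμ i → g.1 i j = 0 :=
  Iff.rfl

theorem upper_le_parabolicGL {μ : Fin n → ℕ} (hμ : ∑ i, μ i = n) :
    upperTriangularGL n F ≤ parabolicGL n F μ := by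
  intro g hg
  rw [mem_parabolicGL_iff hμ]
  intro i j hij
  exact hg (lt_of_not_ge fun h => absurd (label_mono hμ h) (not_le.mpr hij))

theorem permGL_mem_parabolicGL {μ : Fin n → ℕ} (hμ : ∑ i, μ i = n) {ρ : Equiv.Perm (Fin n)}
    (h : ∀ i, label hμ (ρ i) = label hμ i) : (permGL ρ : GL (Fin n) F) ∈ parabolicGL n F μ := by
  rw [mem_parabolicGL_iff hμ]
  intro i j hij
  rw [permGL_apply, if_neg]
  rintro rfl
  have := h (ρ⁻¹ i)
  simp only [Equiv.Perm.coe_inv, Equiv.apply_symm_apply] at this
  rw [Equiv.Perm.coe_inv, ← this] at hij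
  exact lt_irrefl _ hij

theorem row_ne_zero (g : GL (Fin n) F) (i : Fin n) : ∃ j, g.1 i j ≠ 0 := by
  by_contra h
  push Not at h
  have h1 : g.1.det = 0 := Matrix.det_eq_zero_of_row_eq_zero i h
  exact ((Matrix.isUnit_iff_isUnit_det _).mp g.isUnit).ne_zero h1

section Bruhat

variable [Finite F]

open Classical in
/-- The column of the first nonzero entry of a row. -/
noncomputable def pivot (g : GL (Fin n) F) (i : Fin n) : Fin n :=
  (Finset.univ.filter fun j => g.1 i j ≠ 0).min' (by
    obtain ⟨j, hj⟩ := row_ne_zero g i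
    exact ⟨j, by simp [hj]⟩)

theorem pivot_ne_zero (g : GL (Fin n) F) (i : Fin n) : g.1 i (pivot g i) ≠ 0 := by
  classical
  have h := Finset.min'_mem (Finset.univ.filter fun j => g.1 i j ≠ 0) (by
    obtain ⟨j, hj⟩ := row_ne_zero g i
    exact ⟨j, by simp [hj]⟩)
  exact (Finset.mem_filter.mp h).2

theorem apply_eq_zero_of_lt_pivot (g : GL (Fin n) F) {i j : Fin n} (h : j < pivot g i) :
    g.1 i j = 0 := by
  classical
  by_contra hne
  exact absurd (Finset.min'_le _ j (by simp [hne])) (not_le.mpr h)

/-- Bruhat decomposition. -/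
theorem exists_bruhat (g : GL (Fin n) F) : ∃ b ∈ upperTriangularGL n F, ∃ σ : Equiv.Perm (Fin n),
    ∃ u ∈ upperTriangularGL n F, g = b * permGL σ * u := by
  classical
  haveI : Finite (GL (Fin n) F) := inferInstance
  obtain ⟨⟨b, hb⟩, hmax⟩ := Finite.exists_max
    (fun b : upperTriangularGL n F => ∑ i, (pivot ((b : GL (Fin n) F) * g) i).val)
  set M := b * g with hM
  have hinj : Function.Injective (pivot M) := by
    by_contra hni
    rw [Function.not_injective_iff] at hni
    obtain ⟨x, y, hxy, hne⟩ := hni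
    wlog hlt : x < y generalizing x y
    · exact this y x hxy.symm (Ne.symm hne) (lt_of_le_of_ne (not_lt.mp hlt) (Ne.symm hne))
    set j := pivot M x with hj
    set c := -(M.1 x j) / M.1 y j with hc
    have hyj : M.1 y j ≠ 0 := by rw [hxy]; exact pivot_ne_zero M y
    let t : GL (Fin n) F := GeneralLinearGroup.mkOfDetNeZero (Matrix.transvection x y c) (by
      rw [Matrix.det_transvection_of_ne x y hne]; exact one_ne_zero)
    have ht : t ∈ upperTriangularGL n F := by
      intro i k hik
      show Matrix.transvection x y c i k = 0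
      have hik' : k < i := hik
      simp only [Matrix.transvection, Matrix.add_apply, Matrix.single_apply]
      rw [Matrix.one_apply_ne (ne_of_gt hik'), if_neg, zero_add]
      rintro ⟨rfl, rfl⟩
      exact lt_asymm hlt hik'
    have h2 := hmax ⟨t * b, mul_mem ht hb⟩
    have hrow : ∀ i k, ((t * b * g : GL (Fin n) F)).1 i k =
        if i = x then M.1 x k + c * M.1 y k else M.1 i k := by
      intro i k
      rw [mul_assoc]
      show (Matrix.transvection x y c * M.1) i k = _
      split
      · next h => rw [h, Matrix.transvection_mul_apply_same]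
      · next h => rw [Matrix.transvection_mul_apply_of_ne _ _ _ _ h]
    have hother : ∀ i, i ≠ x → pivot (t * b * g) i = pivot M i := by
      intro i hi
      unfold pivot
      congr 1
      exact Finset.filter_congr fun k _ => by rw [hrow, if_neg hi]
    have hgt : pivot M x < pivot (t * b * g) x := by
      by_contra hle
      push Not at hle
      have hne0 := pivot_ne_zero (t * b * g) x
      rw [hrow, if_pos rfl] at hne0
      rcases lt_or_eq_of_le hle with hl | he
      · rw [apply_eq_zero_of_lt_pivot M hl, apply_eq_zero_of_lt_pivot M (hl.trans_eq hxy)] at hne0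
        simp at hne0
      · rw [he, ← hj, hc, div_mul_cancel₀ _ hyj] at hne0
        simp at hne0
    have : ∑ i, (pivot M i).val < ∑ i, (pivot (t * b * g) i).val := by
      refine Finset.sum_lt_sum (fun i _ => ?_) ⟨x, Finset.mem_univ _, hgt⟩
      rcases eq_or_ne i x with rfl | hi
      · exact le_of_lt hgt
      · rw [hother i hi]
    exact absurd h2 (not_le.mpr this)
  let σ : Equiv.Perm (Fin n) := Equiv.ofBijective (pivot M) (Finite.injective_iff_bijective.mp hinj)
  have hu : permGL σ * M ∈ upperTriangularGL n F := by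
    intro i k hik
    show ((permGL σ : GL (Fin n) F).1 * M.1) i k = 0
    rw [permGL_mul_apply]
    have : pivot M (σ⁻¹ i) = i := σ.apply_symm_apply i
    exact apply_eq_zero_of_lt_pivot M (by rw [this]; exact hik)
  refine ⟨b⁻¹, inv_mem hb, σ⁻¹, _, hu, ?_⟩
  rw [map_inv, hM]; group

end Bruhat

section Invariant

variable {α β : Fin n → ℕ} (hα : ∑ i, α i = n) (hβ : ∑ i, β i = n)

/-- The vectors vanishing on the positions of `β`-label at least `b`, mapped by `g` into vectors vanishing on
the positions of `α`-label at least `a`. -/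
def inv' (g : GL (Fin n) F) (a b : ℕ) : Set (Fin n → F) :=
  {v | (∀ j, b ≤ (label hβ j).val → v j = 0) ∧ ∀ i, a ≤ (label hα i).val → (g.1 *ᵥ v) i = 0}

theorem parabolic_mulVec {μ : Fin n → ℕ} (hμ : ∑ i, μ i = n) {p : GL (Fin n) F}
    (hp : p ∈ parabolicGL n F μ) {b : ℕ} {v : Fin n → F} (hv : ∀ j, b ≤ (label hμ j).val → v j = 0)
    (i : Fin n) (hi : b ≤ (label hμ i).val) : (p.1 *ᵥ v) i = 0 := by
  show ∑ k, p.1 i k * v k = 0
  refine Finset.sum_eq_zero fun k _ => ?_
  rcases lt_or_ge (label hμ k) (label hμ i) with h | h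
  · exact mul_eq_zero_of_left ((mem_parabolicGL_iff hμ).mp hp i k h) _
  · exact mul_eq_zero_of_right _ (hv k (hi.trans h))

theorem card_inv'_mul {p q : GL (Fin n) F} (hp : p ∈ parabolicGL n F α) (hq : q ∈ parabolicGL n F β)
    (g : GL (Fin n) F) (a b : ℕ) :
    Nat.card (inv' hα hβ (p * g * q) a b) = Nat.card (inv' hα hβ g a b) := by
  have hcancel : ∀ (x : GL (Fin n) F) (v : Fin n → F), (x⁻¹).1 *ᵥ (x.1 *ᵥ v) = v := fun x v => by
    rw [Matrix.mulVec_mulVec, ← Units.val_mul, inv_mul_cancel, Units.val_one, Matrix.one_mulVec]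
  have hcancel' : ∀ (x : GL (Fin n) F) (v : Fin n → F), x.1 *ᵥ ((x⁻¹).1 *ᵥ v) = v := fun x v => by
    simpa using hcancel x⁻¹ v
  have hval : ∀ v, (p * g * q).1 *ᵥ v = p.1 *ᵥ (g.1 *ᵥ (q.1 *ᵥ v)) := fun v => by
    rw [Matrix.mulVec_mulVec, Matrix.mulVec_mulVec, Units.val_mul, Units.val_mul, Matrix.mul_assoc]
  refine Nat.card_congr
    { toFun := fun v => ⟨q.1 *ᵥ v.1, fun j hj => parabolic_mulVec hβ hq v.2.1 j hj, fun i hi => ?_⟩
      invFun := fun w => ⟨(q⁻¹).1 *ᵥ w.1,
        fun j hj => parabolic_mulVec hβ (inv_mem hq) w.2.1 j hj, fun i hi => ?_⟩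
      left_inv := fun v => Subtype.ext (hcancel q v.1)
      right_inv := fun w => Subtype.ext (hcancel' q w.1) }
  · have h := parabolic_mulVec hα (inv_mem hp) v.2.2 i hi
    rwa [hval, hcancel] at h
  · rw [hval, hcancel']
    exact parabolic_mulVec hα hp w.2.2 i hi

theorem card_inv'_perm [Fintype F] (σ : Equiv.Perm (Fin n)) (a b : ℕ) :
    Nat.card (inv' hα hβ (permGL σ : GL (Fin n) F) a b) = Fintype.card F ^
      (Finset.univ.filter fun j => (label hβ j).val < b ∧ (label hα (σ j)).val < a).card := by
  classical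
  let S := {j : Fin n // (label hβ j).val < b ∧ (label hα (σ j)).val < a}
  have e : ↥(inv' hα hβ (permGL σ : GL (Fin n) F) a b) ≃ (S → F) :=
    { toFun := fun v j => v.1 j.1
      invFun := fun w => ⟨fun j => if h : (label hβ j).val < b ∧ (label hα (σ j)).val < a then w ⟨j, h⟩ else 0,
        fun j hj => dif_neg fun h => absurd h.1 (not_lt.mpr hj), fun i hi => by
          rw [permGL_mulVec]
          refine dif_neg fun h => ?_
          have h2 := h.2
          simp only [Equiv.Perm.coe_inv, Equiv.apply_symm_apply] at h2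
          exact absurd h2 (not_lt.mpr hi)⟩
      left_inv := fun v => Subtype.ext (funext fun j => by
        dsimp only
        split
        · rfl
        · next h =>
          rcases not_and_or.mp h with h1 | h2
          · exact (v.2.1 j (not_lt.mp h1)).symm
          · have := v.2.2 (σ j) (not_lt.mp h2)
            rw [permGL_mulVec] at this
            simpa using this.symm)
      right_inv := fun w => funext fun j => dif_pos j.2 }
  rw [Nat.card_congr e, Nat.card_eq_fintype_card, Fintype.card_fun, Fintype.card_subtype]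

/-- Corner counts determine the count matrix. -/
theorem countMat_eq_of_corner (f g : Fin n → Fin n) (σ τ : Equiv.Perm (Fin n))
    (h : ∀ a b : ℕ, (Finset.univ.filter fun j => (g j).val < b ∧ (f (σ j)).val < a).card =
      (Finset.univ.filter fun j => (g j).val < b ∧ (f (τ j)).val < a).card) :
    countMat f g σ = countMat f g τ := by
  classical
  have key : ∀ (π : Equiv.Perm (Fin n)) (a b : Fin n),
      (Finset.univ.filter fun j => (g j).val < b.val + 1 ∧ (f (π j)).val < a.val + 1).card +
        (Finset.univ.filter fun j => (g j).val < b.val ∧ (f (π j)).val < a.val).card =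
      (Finset.univ.filter fun j => (g j).val < b.val + 1 ∧ (f (π j)).val < a.val).card +
        (Finset.univ.filter fun j => (g j).val < b.val ∧ (f (π j)).val < a.val + 1).card +
          countMat f g π a b := by
    intro π a b
    simp only [countMat, Finset.card_filter, ← Finset.sum_add_distrib]
    refine Finset.sum_congr rfl fun j _ => ?_
    simp only [Fin.ext_iff]
    split_ifs <;> omega
  funext a b
  have h1 := key σ a b
  have h2 := key τ a b
  rw [h, h, h, h] at h1
  omega

end Invariant

/-- Parabolic double cosets correspond to matrices with the given margins. -/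
theorem card_parabolic_doubleCosets [Fintype F] {α β : Fin n → ℕ} (hα : ∑ i, α i = n)
    (hβ : ∑ i, β i = n) :
    Nat.card (DoubleCoset.Quotient (parabolicGL n F α : Set (GL (Fin n) F))
      (parabolicGL n F β : Set (GL (Fin n) F))) = Nat.card (Marg α β) := by
  refine card_eq_of_same_kernel
    (fun σ => DoubleCoset.mk (parabolicGL n F α) (parabolicGL n F β) (permGL σ)) (margOf hα hβ)
    (fun q => ?_) (margOf_surjective hα hβ) fun σ τ => ?_
  · obtain ⟨b, hb, σ, u, hu, e⟩ := exists_bruhat (Quotient.out q)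
    refine ⟨σ, ?_⟩
    rw [← DoubleCoset.out_eq' (parabolicGL n F α) (parabolicGL n F β) q]
    exact (DoubleCoset.eq _ _ _ _).mpr
      ⟨b, upper_le_parabolicGL hα hb, u, upper_le_parabolicGL hβ hu, e⟩
  · rw [DoubleCoset.eq, margOf, margOf, Subtype.mk.injEq]
    constructor
    · rintro ⟨p, hp, q, hq, e⟩
      refine countMat_eq_of_corner _ _ σ τ fun a b => ?_
      have h := card_inv'_mul hα hβ hp hq (permGL σ) a b
      rw [← e, card_inv'_perm, card_inv'_perm] at h
      exact (Nat.pow_right_injective Fintype.one_lt_card h).symm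
    · rw [countMat_eq_iff]
      rintro ⟨ρ, π, hρ, hπ, rfl⟩
      exact ⟨permGL ρ, permGL_mem_parabolicGL hα hρ, permGL π, permGL_mem_parabolicGL hβ hπ,
        by rw [map_mul, map_mul]⟩

section Inner

variable {G : Type*} [Group G] [Fintype G]

/-- The inner product of two coset permutation characters counts double cosets. -/
theorem sum_fix_mul_fix (H K : Subgroup G) :
    ∑ g : G, fixedPointCharacter H g * fixedPointCharacter K g =
      (Nat.card (DoubleCoset.Quotient (H : Set G) K) : ℂ) * (Nat.card G : ℂ) := by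
  classical
  have h := MulAction.sum_card_fixedBy_eq_card_orbits_mul_card_group G ((G ⧸ H) × (G ⧸ K))
  have horb : Nat.card (MulAction.orbitRel.Quotient G ((G ⧸ H) × (G ⧸ K))) =
      Nat.card (DoubleCoset.Quotient (H : Set G) K) := by
    refine card_eq_of_same_kernel
      (fun x : G => (Quotient.mk'' (((1 : G) : G ⧸ H), (x : G ⧸ K)) :
        MulAction.orbitRel.Quotient G ((G ⧸ H) × (G ⧸ K)))) (DoubleCoset.mk H K) (fun q => ?_)
      (fun q => ⟨Quotient.out q, DoubleCoset.out_eq' _ _ q⟩) fun x y => ?_
    · induction q using Quotient.inductionOn' with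
      | _ p =>
        obtain ⟨a, b⟩ := p
        induction a using QuotientGroup.induction_on with
        | H a =>
          induction b using QuotientGroup.induction_on with
          | H b =>
            refine ⟨a⁻¹ * b, Quotient.sound' ?_⟩
            rw [MulAction.orbitRel_apply, MulAction.mem_orbit_iff]
            refine ⟨a⁻¹, Prod.ext ?_ ?_⟩
            · show a⁻¹ • (a : G ⧸ H) = ((1 : G) : G ⧸ H)
              rw [MulAction.Quotient.smul_coe, smul_eq_mul, inv_mul_cancel]
            · show a⁻¹ • (b : G ⧸ K) = ((a⁻¹ * b : G) : G ⧸ K)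
              rw [MulAction.Quotient.smul_coe, smul_eq_mul]
    · rw [Quotient.eq'', MulAction.orbitRel_apply, MulAction.mem_orbit_iff, DoubleCoset.eq]
      constructor
      · rintro ⟨g, hg⟩
        have h1 : g • ((1 : G) : G ⧸ H) = ((1 : G) : G ⧸ H) := congrArg Prod.fst hg
        have h2 : g • (y : G ⧸ K) = (x : G ⧸ K) := congrArg Prod.snd hg
        rw [MulAction.Quotient.smul_coe, smul_eq_mul, mul_one, QuotientGroup.eq, mul_one, inv_mem_iff] at h1
        rw [MulAction.Quotient.smul_coe, smul_eq_mul, QuotientGroup.eq] at h2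
        refine ⟨g⁻¹, inv_mem h1, ((g * y)⁻¹ * x)⁻¹, inv_mem h2, ?_⟩
        group
      · rintro ⟨p, hp, k, hk, rfl⟩
        refine ⟨p⁻¹, Prod.ext ?_ ?_⟩
        · show p⁻¹ • ((1 : G) : G ⧸ H) = ((1 : G) : G ⧸ H)
          rw [MulAction.Quotient.smul_coe, smul_eq_mul, mul_one, QuotientGroup.eq, mul_one, inv_inv]
          exact hp
        · show p⁻¹ • ((p * x * k : G) : G ⧸ K) = (x : G ⧸ K)
          rw [MulAction.Quotient.smul_coe, smul_eq_mul, QuotientGroup.eq]
          convert inv_mem hk using 1
          group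
  have hterm : ∀ g : G, fixedPointCharacter H g * fixedPointCharacter K g =
      ((Fintype.card (MulAction.fixedBy ((G ⧸ H) × (G ⧸ K)) g) : ℕ) : ℂ) := by
    intro g
    show (Nat.card (MulAction.fixedBy (G ⧸ H) g) : ℂ) * (Nat.card (MulAction.fixedBy (G ⧸ K) g) : ℂ) = _
    rw [← Nat.cast_mul, ← Nat.card_prod, ← Nat.card_eq_fintype_card, Nat.cast_inj]
    exact Nat.card_congr
      { toFun := fun p => ⟨(p.1.1, p.2.1), Prod.ext p.1.2 p.2.2⟩
        invFun := fun z => (⟨z.1.1, congrArg Prod.fst z.2⟩, ⟨z.1.2, congrArg Prod.snd z.2⟩)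
        left_inv := fun _ => rfl
        right_inv := fun _ => rfl }
  rw [Finset.sum_congr rfl fun g _ => hterm g, ← Nat.cast_sum, h, ← horb, Nat.card_eq_fintype_card,
    Nat.card_eq_fintype_card, Nat.cast_mul]

theorem classInner_fix (H K : Subgroup G) :
    classInner (fixedPointCharacter H) (fixedPointCharacter K) =
      (Nat.card (DoubleCoset.Quotient (H : Set G) K) : ℂ) := by
  have h : ∀ g : G, (starRingEnd ℂ) (fixedPointCharacter K g) = fixedPointCharacter K g := fun g =>
    map_natCast _ _
  unfold classInner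
  simp only [h]
  rw [sum_fix_mul_fix, mul_comm, mul_assoc, mul_inv_cancel₀, mul_one]
  exact Nat.cast_ne_zero.mpr Nat.card_pos.ne'

theorem isCharacter_fix (H : Subgroup G) : IsCharacter G (fixedPointCharacter H) := by
  have h := CfsgLib.CharTheory.isCharacter_indFun H (CfsgLib.CharTheory.isCharacter_one (G := H))
  convert h using 1
  funext g
  rw [CfsgLib.CharTheory.indFun_one_eq_permChar]
  rfl

end Inner

end CfsgLib.GLFlags
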