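/-
The Cauchy determinant as an identity of power series, and the orthogonality identity for alternating sums of
margin counts that follows from it.
-/
import Mathlib
import Cfsg.Agent.Lib.GLFlags.Label

namespace CfsgLib.GLFlags

open Finset

/-- The geometric series `∑ (monomial d)^k`. -/
noncomputable def geo {σ : Type*} (d : σ →₀ ℕ) : MvPowerSeries σ ℤ :=
  fun e => open Classical in if ∃ k : ℕ, e = k • d then 1 else 0

open Classical in
theorem coeff_geo {σ : Type*} (d e : σ →₀ ℕ) :
    MvPowerSeries.coeff e (geo d) = if ∃ k : ℕ, e = k • d then 1 else 0 := rfl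

theorem geo_mul_one_sub {σ : Type*} {d : σ →₀ ℕ} (hd : d ≠ 0) :
    geo d * (1 - MvPowerSeries.monomial d (1 : ℤ)) = 1 := by
  classical
  ext e
  rw [mul_sub, mul_one, map_sub, MvPowerSeries.coeff_mul_monomial, coeff_geo, MvPowerSeries.coeff_one]
  by_cases he : e = 0
  · subst he
    rw [if_pos ⟨0, by simp⟩, if_neg, if_pos rfl, sub_zero]
    intro h
    exact hd (le_antisymm h (zero_le' (a := d)))
  · rw [if_neg he]
    by_cases hde : d ≤ e
    · rw [if_pos hde, coeff_geo, mul_one]
      have : (∃ k : ℕ, e = k • d) ↔ ∃ k : ℕ, e - d = k • d := by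
        constructor
        · rintro ⟨k, rfl⟩
          rcases k with - | k
          · simp at he
          · exact ⟨k, by rw [succ_nsmul, add_tsub_cancel_right]⟩
        · rintro ⟨k, hk⟩
          exact ⟨k + 1, by rw [succ_nsmul, ← hk, tsub_add_cancel_of_le hde]⟩
      simp only [this, sub_self]
    · rw [if_neg hde, if_neg, sub_zero]
      rintro ⟨k, rfl⟩
      rcases k with - | k
      · simp at he
      · exact hde (by rw [succ_nsmul]; exact le_add_self)

theorem coeff_prod_geo {σ ι : Type*} [Fintype ι] (u : ι → σ →₀ ℕ) (hu : ∀ t, u t ≠ 0) (e : σ →₀ ℕ) :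
    MvPowerSeries.coeff e (∏ t, geo (u t)) = (Nat.card {k : ι → ℕ // ∑ t, k t • u t = e} : ℤ) := by
  classical
  rw [MvPowerSeries.coeff_prod]
  simp only [coeff_geo, Fintype.prod_boole, Finset.sum_boole]
  rw [Nat.cast_inj]
  symm
  have hinj : ∀ (t : ι) (a b : ℕ), a • u t = b • u t → a = b := by
    intro t a b h
    obtain ⟨s, hs⟩ := Finsupp.ne_iff.mp (hu t)
    have h2 := DFunLike.congr_fun h s
    simp only [Finsupp.smul_apply, smul_eq_mul] at h2
    exact Nat.eq_of_mul_eq_mul_right (Nat.pos_of_ne_zero (by simpa using hs)) h2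
  rw [← Nat.card_eq_finsetCard]
  refine Nat.card_eq_of_bijective
    (fun k => ⟨Finsupp.equivFunOnFinite.symm fun t => k.1 t • u t, ?_⟩) ⟨fun k k' h => ?_, fun l => ?_⟩
  · rw [Finset.mem_filter, Finset.mem_finsuppAntidiag]
    refine ⟨⟨?_, fun t _ => Finset.mem_univ t⟩, fun t => ⟨k.1 t, ?_⟩⟩
    · simpa using k.2
    · simp
  · refine Subtype.ext (funext fun t => hinj t _ _ ?_)
    have h2 := DFunLike.congr_fun (congrArg Subtype.val h) t
    simpa using h2
  · obtain ⟨l, hl⟩ := l
    rw [Finset.mem_filter, Finset.mem_finsuppAntidiag] at hl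
    obtain ⟨⟨hsum, -⟩, hk⟩ := hl
    choose k hk using hk
    refine ⟨⟨k, ?_⟩, Subtype.ext (Finsupp.ext fun t => ?_)⟩
    · rw [← hsum]; exact Finset.sum_congr rfl fun t _ => (hk t).symm
    · simpa using (hk t).symm

variable {n : ℕ}

/-- The exponent vector of `x_i y_j`. -/
noncomputable def pairExp (i j : Fin n) : (Fin n ⊕ Fin n) →₀ ℕ :=
  Finsupp.single (Sum.inl i) 1 + Finsupp.single (Sum.inr j) 1

/-- The exponent vector with the given `x`- and `y`-parts. -/
noncomputable def expVec (r c : Fin n → ℕ) : (Fin n ⊕ Fin n) →₀ ℕ :=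
  Finsupp.equivFunOnFinite.symm (Sum.elim r c)

theorem pairExp_ne_zero (i j : Fin n) : pairExp i j ≠ 0 := by
  intro h
  have := DFunLike.congr_fun h (Sum.inl i)
  simp [pairExp] at this

theorem coeff_kernel (r c : Fin n → ℕ) :
    MvPowerSeries.coeff (expVec r c) (∏ t : Fin n × Fin n, geo (pairExp t.1 t.2)) =
      (Nat.card (Marg r c) : ℤ) := by
  classical
  refine (coeff_prod_geo (fun t : Fin n × Fin n => pairExp t.1 t.2) (fun t => pairExp_ne_zero t.1 t.2) (expVec r c)).trans ?_
  rw [Nat.cast_inj]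
  refine Nat.card_congr ((Equiv.curry _ _ _).subtypeEquiv fun k => ?_)
  rw [DFunLike.ext_iff, Sum.forall]
  refine and_congr (forall_congr' fun a => ?_) (forall_congr' fun b => ?_)
  · simp [expVec, pairExp, Fintype.sum_prod_type, Finsupp.single_apply, Function.curry]
  · simp [expVec, pairExp, Fintype.sum_prod_type_right, Finsupp.single_apply, Function.curry]

/-- The alternating sum of margin counts. -/
noncomputable def altSum (l m : Fin n → ℕ) : ℤ :=
  ∑ κ : Equiv.Perm (Fin n), ∑ κ' : Equiv.Perm (Fin n),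
    if (∀ i, (κ i).val ≤ l i) ∧ ∀ i, (κ' i).val ≤ m i then
      (Equiv.Perm.sign κ : ℤ) * (Equiv.Perm.sign κ' : ℤ) *
        (Nat.card (Marg (fun i => l i - (κ i).val) (fun i => m i - (κ' i).val)) : ℤ)
    else 0

theorem prod_X_pow {σ : Type*} {ι : Type*} (s : Finset ι) (z : ι → σ) (k : ι → ℕ) :
    (∏ i ∈ s, (MvPowerSeries.X (z i) : MvPowerSeries σ ℤ) ^ k i) =
      MvPowerSeries.monomial (∑ i ∈ s, Finsupp.single (z i) (k i)) 1 := by
  classical
  induction s using Finset.induction_on with
  | empty => simp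
  | insert a s ha ih =>
    rw [Finset.prod_insert ha, Finset.sum_insert ha, ih, MvPowerSeries.X_pow_eq,
      MvPowerSeries.monomial_mul_monomial, one_mul]

theorem det_vandermonde_X (z : Fin n → Fin n ⊕ Fin n) :
    (Matrix.vandermonde fun i => (MvPowerSeries.X (z i) : MvPowerSeries (Fin n ⊕ Fin n) ℤ)).det =
      ∑ κ : Equiv.Perm (Fin n),
        MvPowerSeries.monomial (∑ i, Finsupp.single (z i) (κ i).val) (Equiv.Perm.sign κ : ℤ) := by
  classical
  rw [← Matrix.det_transpose, Matrix.det_apply]
  refine Finset.sum_congr rfl fun κ _ => ?_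
  simp only [Matrix.transpose_apply, Matrix.vandermonde_apply]
  rw [prod_X_pow, Units.smul_def, ← map_smul, smul_eq_mul, mul_one]

theorem coeff_alternant_mul_kernel (l m : Fin n → ℕ) :
    MvPowerSeries.coeff (expVec l m)
      ((Matrix.vandermonde fun i => (MvPowerSeries.X (Sum.inl i) : MvPowerSeries (Fin n ⊕ Fin n) ℤ)).det *
        (Matrix.vandermonde fun i => (MvPowerSeries.X (Sum.inr i) : MvPowerSeries (Fin n ⊕ Fin n) ℤ)).det *
          ∏ t : Fin n × Fin n, geo (pairExp t.1 t.2)) = altSum l m := by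
  classical
  rw [det_vandermonde_X, det_vandermonde_X, Finset.sum_mul_sum, Finset.sum_mul, map_sum, altSum]
  refine Finset.sum_congr rfl fun κ _ => ?_
  rw [Finset.sum_mul, map_sum]
  refine Finset.sum_congr rfl fun κ' _ => ?_
  rw [MvPowerSeries.monomial_mul_monomial, MvPowerSeries.coeff_monomial_mul]
  set e := ∑ i, Finsupp.single (Sum.inl i : Fin n ⊕ Fin n) (κ i).val +
    ∑ i, Finsupp.single (Sum.inr i : Fin n ⊕ Fin n) (κ' i).val with he
  have he' : e = expVec (fun i => (κ i).val) (fun i => (κ' i).val) := by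
    ext (a | a) <;> simp [he, expVec, Finsupp.single_apply]
  have hiff : e ≤ expVec l m ↔ (∀ i, (κ i).val ≤ l i) ∧ ∀ i, (κ' i).val ≤ m i := by
    rw [he', Finsupp.le_def, Sum.forall]
    simp [expVec]
  by_cases hc : (∀ i, (κ i).val ≤ l i) ∧ ∀ i, (κ' i).val ≤ m i
  · rw [if_pos (hiff.mpr hc), if_pos hc]
    congr 1
    rw [he', ← coeff_kernel, show expVec l m - expVec (fun i => (κ i).val) (fun i => (κ' i).val) =
      expVec (fun i => l i - (κ i).val) (fun i => m i - (κ' i).val) by ext (a | a) <;> simp [expVec]]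
  · rw [if_neg (fun h => hc (hiff.mp h)), if_neg hc]

theorem sum_coeff_prod_X_sub (s : Finset (Fin n)) {R : Type*} [CommRing R] (y : Fin n → R) (a b : R) :
    ∑ k ∈ Finset.range (s.card + 1), (∏ l ∈ s, (Polynomial.X - Polynomial.C (y l))).coeff k *
      a ^ (s.card - k) * b ^ k = ∏ l ∈ s, (b - a * y l) := by
  classical
  induction s using Finset.induction_on with
  | empty => simp
  | insert c s hc ih =>
    rw [Finset.prod_insert hc, Finset.prod_insert hc, Finset.card_insert_of_notMem hc, ← ih]
    set P := ∏ l ∈ s, (Polynomial.X - Polynomial.C (y l)) with hP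
    set m := s.card with hm
    have htop : P.coeff (m + 1) = 0 := by
      refine Polynomial.coeff_eq_zero_of_natDegree_lt (lt_of_le_of_lt ?_ (Nat.lt_succ_self m))
      refine (Polynomial.natDegree_prod_le _ _).trans ?_
      rw [hm, Finset.card_eq_sum_ones]
      exact Finset.sum_le_sum fun l _ => (Polynomial.natDegree_X_sub_C_le _)
    have hshift : ∑ k ∈ Finset.range (m + 1), P.coeff k * a ^ (m + 1 - k) * b ^ k =
        ∑ k ∈ Finset.range (m + 1), a * (P.coeff k * a ^ (m - k) * b ^ k) := by
      refine Finset.sum_congr rfl fun k hk => ?_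
      rw [show m + 1 - k = (m - k) + 1 by have := Finset.mem_range.mp hk; omega, pow_succ]
      ring
    calc ∑ k ∈ Finset.range (m + 1 + 1),
          ((Polynomial.X - Polynomial.C (y c)) * P).coeff k * a ^ (m + 1 - k) * b ^ k
        = ∑ k ∈ Finset.range (m + 1 + 1), ((Polynomial.X * P).coeff k * a ^ (m + 1 - k) * b ^ k -
            y c * (P.coeff k * a ^ (m + 1 - k) * b ^ k)) := by
          refine Finset.sum_congr rfl fun k _ => ?_
          rw [sub_mul, Polynomial.coeff_sub, Polynomial.coeff_C_mul]; ring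
      _ = b * ∑ k ∈ Finset.range (m + 1), P.coeff k * a ^ (m - k) * b ^ k -
            y c * ∑ k ∈ Finset.range (m + 1), a * (P.coeff k * a ^ (m - k) * b ^ k) := by
          rw [Finset.sum_sub_distrib]
          congr 1
          · rw [Finset.sum_range_succ', Finset.mul_sum]
            simp only [Polynomial.coeff_X_mul, Polynomial.coeff_X_mul_zero, zero_mul, add_zero]
            refine Finset.sum_congr rfl fun k hk => ?_
            rw [Nat.succ_sub_succ, pow_succ]; ring
          · rw [← Finset.mul_sum, Finset.sum_range_succ, htop, zero_mul, zero_mul, add_zero, hshift]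
      _ = _ := by rw [← Finset.mul_sum]; ring

/-- The Cauchy determinant, cleared of denominators. -/
theorem det_cauchy_numerator {R : Type*} [CommRing R] [IsDomain R] (x y : Fin n → R)
    (hy : Function.Injective y) : ∃ ε : ℤ, (ε = 1 ∨ ε = -1) ∧
    (Matrix.of fun i j : Fin n => ∏ l ∈ Finset.univ.erase j, (1 - x i * y l)).det =
      (ε : R) * (Matrix.vandermonde x).det * (Matrix.vandermonde y).det := by
  classical
  let Pj : Fin n → Polynomial R := fun j => ∏ l ∈ Finset.univ.erase j, (Polynomial.X - Polynomial.C (y l))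
  let C : Matrix (Fin n) (Fin n) R := Matrix.of fun k j => (Pj j).coeff (Fin.rev k).val
  have hcard : ∀ j : Fin n, (Finset.univ.erase j).card + 1 = n := fun j => by
    rw [Finset.card_erase_of_mem (Finset.mem_univ _), Finset.card_univ, Fintype.card_fin]
    have := j.pos
    omega
  have hA : (Matrix.of fun i j : Fin n => ∏ l ∈ Finset.univ.erase j, (1 - x i * y l)) =
      Matrix.vandermonde x * C := by
    ext i j
    have h := sum_coeff_prod_X_sub (Finset.univ.erase j) y (x i) 1
    simp only [one_pow, mul_one] at h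
    rw [hcard j] at h
    rw [Matrix.of_apply, ← h, Matrix.mul_apply, ← Fin.sum_univ_eq_sum_range
      (fun k => (Pj j).coeff k * x i ^ ((Finset.univ.erase j).card - k)) n,
      ← Equiv.sum_comp Fin.revPerm]
    refine Finset.sum_congr rfl fun k _ => ?_
    rw [Matrix.vandermonde_apply]
    simp only [C, Matrix.of_apply, Fin.revPerm_apply]
    rw [mul_comm]
    congr 2
    have := hcard j
    rw [Fin.val_rev]
    omega
  have hB : (Matrix.vandermonde y).submatrix id (Fin.revPerm) * C =
      Matrix.diagonal fun j => ∏ l ∈ Finset.univ.erase j, (y j - y l) := by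
    ext i j
    have h := sum_coeff_prod_X_sub (Finset.univ.erase j) y 1 (y i)
    simp only [one_pow, mul_one, one_mul] at h
    rw [hcard j] at h
    rw [Matrix.mul_apply, show (∑ k, (Matrix.vandermonde y).submatrix id Fin.revPerm i k * C k j) =
      ∏ l ∈ Finset.univ.erase j, (y i - y l) from ?_]
    · rcases eq_or_ne i j with rfl | hij
      · rw [Matrix.diagonal_apply_eq]
      · rw [Matrix.diagonal_apply_ne _ hij]
        exact Finset.prod_eq_zero (Finset.mem_erase.mpr ⟨hij, Finset.mem_univ _⟩) (sub_self _)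
    · rw [← h, ← Fin.sum_univ_eq_sum_range (fun k => (Pj j).coeff k * y i ^ k) n,
        ← Equiv.sum_comp Fin.revPerm (fun k : Fin n => (Pj j).coeff k.val * y i ^ k.val)]
      refine Finset.sum_congr rfl fun k _ => ?_
      rw [Matrix.submatrix_apply, Matrix.vandermonde_apply]
      simp only [C, Matrix.of_apply, Fin.revPerm_apply, id_eq]
      exact mul_comm _ _
  -- the diagonal product is the squared Vandermonde, up to sign
  have hD : ∏ j : Fin n, ∏ l ∈ Finset.univ.erase j, (y j - y l) =
      (-1) ^ (∑ j : Fin n, (Finset.Ioi j).card) * (Matrix.vandermonde y).det * (Matrix.vandermonde y).det := by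
    have hsplit : ∀ j : Fin n, ∏ l ∈ Finset.univ.erase j, (y j - y l) =
        (∏ l ∈ Finset.Iio j, (y j - y l)) * ((-1) ^ (Finset.Ioi j).card * ∏ l ∈ Finset.Ioi j, (y l - y j)) := by
      intro j
      have hu : Finset.univ.erase j = Finset.Iio j ∪ Finset.Ioi j := by
        ext l; simp [lt_or_lt_iff_ne]
      rw [hu, Finset.prod_union (Finset.disjoint_left.mpr fun l hl hl' =>
        lt_asymm (Finset.mem_Iio.mp hl) (Finset.mem_Ioi.mp hl'))]
      congr 1
      rw [← Finset.prod_const, ← Finset.prod_mul_distrib]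
      exact Finset.prod_congr rfl fun l _ => by ring
    rw [Finset.prod_congr rfl fun j _ => hsplit j, Finset.prod_mul_distrib, Finset.prod_mul_distrib,
      Finset.prod_pow_eq_pow_sum, Matrix.det_vandermonde]
    have hswap : ∏ j : Fin n, ∏ l ∈ Finset.Iio j, (y j - y l) = ∏ j : Fin n, ∏ l ∈ Finset.Ioi j, (y l - y j) :=
      Finset.prod_comm' (fun a b => by simp)
    rw [hswap]; ring
  have hne : (Matrix.vandermonde y).det ≠ 0 := Matrix.det_vandermonde_ne_zero_iff.mpr hy
  have hBd := congrArg Matrix.det hB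
  rw [Matrix.det_mul, Matrix.det_permute', Matrix.det_diagonal, hD] at hBd
  refine ⟨(-1) ^ (∑ j : Fin n, (Finset.Ioi j).card) * (Equiv.Perm.sign (Fin.revPerm : Equiv.Perm (Fin n)) : ℤ), ?_, ?_⟩
  · rcases neg_one_pow_eq_or ℤ (∑ j : Fin n, (Finset.Ioi j).card) with h | h <;>
      rcases Int.units_eq_one_or (Equiv.Perm.sign (Fin.revPerm : Equiv.Perm (Fin n))) with h' | h' <;>
        rw [h, h'] <;> simp
  · rw [hA, Matrix.det_mul]
    have hs : ((Equiv.Perm.sign (Fin.revPerm : Equiv.Perm (Fin n)) : ℤ) : R) *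
        (Equiv.Perm.sign (Fin.revPerm : Equiv.Perm (Fin n)) : ℤ) = 1 := by
      rw [← Int.cast_mul, ← Units.val_mul, Int.units_mul_self, Units.val_one, Int.cast_one]
    have hC : C.det = (-1) ^ (∑ j : Fin n, (Finset.Ioi j).card) *
        ((Equiv.Perm.sign (Fin.revPerm : Equiv.Perm (Fin n)) : ℤ) : R) * (Matrix.vandermonde y).det := by
      refine mul_left_cancel₀ hne ?_
      calc (Matrix.vandermonde y).det * C.det
          = ((Equiv.Perm.sign (Fin.revPerm : Equiv.Perm (Fin n)) : ℤ) : R) *
            (((Equiv.Perm.sign (Fin.revPerm : Equiv.Perm (Fin n)) : ℤ) : R) * (Matrix.vandermonde y).det * C.det) := by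
            linear_combination (-(Matrix.vandermonde y).det * C.det) * hs
        _ = _ := by rw [hBd]; ring
    rw [hC]; push_cast; ring

/-- The alternating sums of margin counts are orthonormal up to one sign. -/
theorem altSum_eq (n : ℕ) : ∃ ε : ℤ, (ε = 1 ∨ ε = -1) ∧
    ∀ l m : Fin n → ℕ, StrictMono l → StrictMono m → altSum l m = if l = m then ε else 0 := by
  classical
  haveI : IsDomain (MvPowerSeries (Fin n ⊕ Fin n) ℤ) := NoZeroDivisors.to_isDomain _
  set x : Fin n → MvPowerSeries (Fin n ⊕ Fin n) ℤ := fun i => MvPowerSeries.X (Sum.inl i) with hx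
  set y : Fin n → MvPowerSeries (Fin n ⊕ Fin n) ℤ := fun i => MvPowerSeries.X (Sum.inr i) with hy
  have hyinj : Function.Injective y := fun a b h => Sum.inr_injective (MvPowerSeries.X_inj.mp h)
  obtain ⟨ε, hε, hdet⟩ := det_cauchy_numerator x y hyinj
  refine ⟨ε, hε, fun l m hl hm => ?_⟩
  set S : Matrix (Fin n) (Fin n) (MvPowerSeries (Fin n ⊕ Fin n) ℤ) :=
    Matrix.of fun i j => geo (pairExp i j) with hS
  have hxy : ∀ i j, geo (pairExp i j) * (1 - x i * y j) = 1 := by
    intro i j
    rw [show x i * y j = MvPowerSeries.monomial (pairExp i j) (1 : ℤ) from ?_]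
    · exact geo_mul_one_sub (pairExp_ne_zero i j)
    · simp only [hx, hy, MvPowerSeries.X, MvPowerSeries.monomial_mul_monomial, one_mul, pairExp]
  have hrow : (Matrix.of fun i j : Fin n => ∏ l ∈ Finset.univ.erase j, (1 - x i * y l)) =
      Matrix.of fun i j => (∏ l, (1 - x i * y l)) * S i j := by
    refine Matrix.ext fun i j => ?_
    rw [Matrix.of_apply, Matrix.of_apply, ← Finset.mul_prod_erase _ _ (Finset.mem_univ j), hS,
      Matrix.of_apply, mul_comm _ (geo (pairExp i j)), ← mul_assoc, hxy, one_mul]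
  have hSdet : S.det = (ε : MvPowerSeries (Fin n ⊕ Fin n) ℤ) * (Matrix.vandermonde x).det *
      (Matrix.vandermonde y).det * ∏ t : Fin n × Fin n, geo (pairExp t.1 t.2) := by
    rw [← hdet, hrow, Matrix.det_mul_column, Fintype.prod_prod_type, mul_comm (_ * S.det), ← mul_assoc,
      ← Finset.prod_mul_distrib]
    have : ∀ i, (∏ j, geo (pairExp i j)) * ∏ l, (1 - x i * y l) = 1 := fun i => by
      rw [← Finset.prod_mul_distrib]; exact Finset.prod_eq_one fun j _ => hxy i j
    rw [Finset.prod_eq_one fun i _ => this i, one_mul]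
  -- compare coefficients
  have hc := congrArg (MvPowerSeries.coeff (expVec l m)) hSdet
  rw [mul_assoc, mul_assoc, ← mul_assoc (Matrix.vandermonde x).det, ← zsmul_eq_mul, map_zsmul,
    coeff_alternant_mul_kernel, smul_eq_mul, Matrix.det_apply, map_sum] at hc
  have hσ : ∀ σ : Equiv.Perm (Fin n), MvPowerSeries.coeff (expVec l m) (∏ i, S (σ i) i) =
      if l ∘ σ = m then 1 else 0 := by
    intro σ
    simp only [hS, Matrix.of_apply]
    rw [coeff_prod_geo _ (fun i => pairExp_ne_zero _ _)]
    have hiff : ∀ k : Fin n → ℕ, (∑ i, k i • pairExp (σ i) i = expVec l m) ↔ k = m ∧ l ∘ σ = m := by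
      intro k
      rw [DFunLike.ext_iff, Sum.forall]
      have h1 : ∀ a, (∑ i, k i • pairExp (σ i) i) (Sum.inl (σ a)) = k a := fun a => by
        simp [pairExp, Finsupp.single_apply]
      have h2 : ∀ a, (∑ i, k i • pairExp (σ i) i) (Sum.inr a) = k a := fun a => by
        simp [pairExp, Finsupp.single_apply]
      constructor
      · rintro ⟨ha, hb⟩
        have hk : k = m := funext fun a => by rw [← h2 a, hb a]; simp [expVec]
        refine ⟨hk, funext fun a => ?_⟩
        have := ha (σ a)
        rw [h1, hk] at this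
        simpa [expVec] using this.symm
      · rintro ⟨rfl, hlm⟩
        refine ⟨fun a => ?_, fun b => by rw [h2]; simp [expVec]⟩
        obtain ⟨a', rfl⟩ := σ.surjective a
        rw [h1]
        simpa [expVec] using (congrFun hlm a').symm
    simp only [hiff]
    by_cases h : l ∘ σ = m
    · rw [if_pos h]
      simp [h]
    · rw [if_neg h]
      simp [h]
  simp only [Units.smul_def, map_zsmul, hσ, smul_eq_mul] at hc
  have hσ1 : ∀ σ : Equiv.Perm (Fin n), l ∘ σ = m → σ = 1 := by
    intro σ h
    have hmono : StrictMono σ := fun a b hab => hl.lt_iff_lt.mp (by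
      have := hm hab; rw [← h] at this; exact this)
    refine Equiv.ext fun a => ?_
    exact congrFun (congrArg DFunLike.coe (Subsingleton.elim
      (StrictMono.orderIsoOfSurjective σ hmono σ.surjective) (OrderIso.refl (Fin n)))) a
  rw [Finset.sum_eq_single 1 (fun σ _ hσ' => by rw [if_neg fun h => hσ' (hσ1 σ h), mul_zero]) (by simp),
    Equiv.Perm.sign_one, Units.val_one, one_mul, Equiv.Perm.coe_one, Function.comp_id] at hc
  have hεε : ε * ε = 1 := by rcases hε with rfl | rfl <;> rfl
  calc altSum l m = ε * (ε * altSum l m) := by rw [← mul_assoc, hεε, one_mul]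
    _ = _ := by rw [← hc]; split <;> simp

end CfsgLib.GLFlags
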