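/-
Order of the standard parabolic subgroups of GL_n(q) and the q-multinomial index formula.
-/
import Mathlib
import Cfsg.Agent.Lib.GLFlags.Label

namespace CfsgLib.GLFlags

open Cfsg Matrix

/-- The q-integer `1 + q + ⋯ + q^(k-1)`. -/
def qInt (q k : ℕ) : ℕ := ∑ l ∈ Finset.range k, q ^ l

/-- The q-factorial. -/
def qFac (q m : ℕ) : ℕ := ∏ j ∈ Finset.range m, qInt q (j + 1)

theorem pred_mul_qInt (q k : ℕ) (hq : 1 ≤ q) : (q - 1) * qInt q k + 1 = q ^ k := by
  induction k with
  | zero => simp [qInt]
  | succ k ih =>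
    rw [qInt, Finset.sum_range_succ, ← qInt, Nat.mul_add, add_right_comm, ih, pow_succ',
      ← one_add_mul, Nat.add_sub_cancel' hq]

theorem qInt_pos {q : ℕ} (k : ℕ) : 0 < qInt q (k + 1) := by
  rw [qInt, Finset.sum_range_succ', pow_zero]
  omega

theorem qFac_pos (q m : ℕ) : 0 < qFac q m := Finset.prod_pos fun j _ => qInt_pos j

theorem qFac_succ (q m : ℕ) : qFac q (m + 1) = qFac q m * qInt q (m + 1) := Finset.prod_range_succ _ _

theorem card_GL_eq {F : Type*} [Field F] [Fintype F] (m : ℕ) :
    Nat.card (GL (Fin m) F) =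
      Fintype.card F ^ m.choose 2 * (Fintype.card F - 1) ^ m * qFac (Fintype.card F) m := by
  rw [Matrix.card_GL_field]
  set q := Fintype.card F with hq
  have hq1 : 1 ≤ q := Fintype.card_pos
  have h : ∀ i ∈ Finset.range m, q ^ m - q ^ i = q ^ i * ((q - 1) * qInt q (m - i)) := by
    intro i hi
    have hi' : i < m := Finset.mem_range.mp hi
    have h2 : q ^ m = q ^ i * q ^ (m - i) := by rw [← pow_add, Nat.add_sub_cancel' hi'.le]
    rw [h2, ← pred_mul_qInt q (m - i) hq1, Nat.mul_add, mul_one, Nat.add_sub_cancel]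
  rw [Fin.prod_univ_eq_prod_range (fun i => q ^ m - q ^ i) m, Finset.prod_congr rfl h,
    Finset.prod_mul_distrib, Finset.prod_pow_eq_pow_sum, Finset.prod_mul_distrib, Finset.prod_const,
    Finset.card_range, Finset.sum_range_id, ← Nat.choose_two_right, mul_assoc]
  congr 2
  rw [qFac, ← Finset.prod_range_reflect]
  refine Finset.prod_congr rfl fun i hi => ?_
  have := Finset.mem_range.mp hi
  congr 1
  omega

variable {n : ℕ} {F : Type*} [Field F]

theorem mem_parabolicGL_iff' {μ : Fin n → ℕ} (hμ : ∑ i, μ i = n) {g : GL (Fin n) F} :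
    g ∈ parabolicGL n F μ ↔ ∀ i j, label hμ j < label hμ i → g.1 i j = 0 :=
  Iff.rfl

/-- The Levi part and the part above the blocks. -/
noncomputable def parabolicEquiv {μ : Fin n → ℕ} (hμ : ∑ i, μ i = n) :
    ↥(parabolicGL n F μ) ≃ (∀ a : Fin n, GL {i : Fin n // label hμ i = a} F) ×
      ({p : Fin n × Fin n // label hμ p.1 < label hμ p.2} → F) where
  toFun g := (fun a => GeneralLinearGroup.mkOfDetNeZero (g.1.1.toSquareBlock (label hμ) a) (by
      have hbt : g.1.1.BlockTriangular (label hμ) := fun i j h => g.2 h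
      have h := ((Matrix.isUnit_iff_isUnit_det _).mp g.1.isUnit).ne_zero
      rw [hbt.det_fintype, Finset.prod_ne_zero_iff] at h
      exact h a (Finset.mem_univ _)), fun p => g.1.1 p.1.1 p.1.2)
  invFun x :=
    let M : Matrix (Fin n) (Fin n) F := Matrix.of fun i j =>
      if h : label hμ j = label hμ i then (x.1 (label hμ i)).1 ⟨i, rfl⟩ ⟨j, h⟩
      else if h' : label hμ i < label hμ j then x.2 ⟨(i, j), h'⟩ else 0
    have hbt : M.BlockTriangular (label hμ) := fun i j h => by
      simp only [M, Matrix.of_apply]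
      rw [dif_neg (ne_of_lt h), dif_neg (not_lt.mpr h.le)]
    have hblock : ∀ a, M.toSquareBlock (label hμ) a = (x.1 a).1 := fun a => by
      ext i j
      obtain ⟨i, rfl⟩ := i
      obtain ⟨j, hj⟩ := j
      simp only [Matrix.toSquareBlock, Matrix.toSquareBlockProp, Matrix.toBlock_apply, M, Matrix.of_apply]
      exact dif_pos hj
    ⟨GeneralLinearGroup.mkOfDetNeZero M (by
      rw [hbt.det_fintype, Finset.prod_ne_zero_iff]
      intro a _
      rw [hblock]
      exact ((Matrix.isUnit_iff_isUnit_det _).mp (x.1 a).isUnit).ne_zero), fun i j h => hbt h⟩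
  left_inv g := by
    refine Subtype.ext (Units.ext ?_)
    ext i j
    show (Matrix.of _ : Matrix (Fin n) (Fin n) F) i j = _
    simp only [Matrix.of_apply]
    split
    · rfl
    · next h =>
      split
      · rfl
      · next h' => exact ((mem_parabolicGL_iff' hμ).mp g.2 i j (lt_of_le_of_ne (not_lt.mp h') h)).symm
  right_inv x := by
    refine Prod.ext (funext fun a => Units.ext ?_) (funext fun p => ?_)
    · ext ⟨i, hi⟩ ⟨j, hj⟩
      subst hi
      show (Matrix.of _ : Matrix (Fin n) (Fin n) F) i j = _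
      simp only [Matrix.of_apply]
      exact dif_pos hj
    · show (Matrix.of _ : Matrix (Fin n) (Fin n) F) p.1.1 p.1.2 = _
      simp only [Matrix.of_apply]
      rw [dif_neg (ne_of_gt p.2), dif_pos p.2]

theorem card_pairs_add_sum_choose {μ : Fin n → ℕ} (hμ : ∑ i, μ i = n) :
    (Finset.univ.filter fun p : Fin n × Fin n => label hμ p.1 < label hμ p.2).card +
      ∑ a, (μ a).choose 2 = n.choose 2 := by
  classical
  set f := label hμ with hf
  have hsq : ∀ m : ℕ, 2 * m.choose 2 + m = m * m := fun m => by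
    induction m with
    | zero => simp
    | succ m ih => rw [Nat.choose_succ_succ', Nat.choose_one_right]; linarith
  have hgt : (Finset.univ.filter fun p : Fin n × Fin n => f p.2 < f p.1).card =
      (Finset.univ.filter fun p : Fin n × Fin n => f p.1 < f p.2).card := by
    refine Finset.card_bij' (fun p _ => p.swap) (fun p _ => p.swap) ?_ ?_ ?_ ?_ <;> intro p hp <;> simp_all
  have heq : (Finset.univ.filter fun p : Fin n × Fin n => f p.1 = f p.2).card = ∑ a, μ a * μ a := by
    rw [Finset.card_eq_sum_card_fiberwise (f := fun p : Fin n × Fin n => f p.1)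
      (t := (Finset.univ : Finset (Fin n))) fun p _ => Finset.mem_univ _]
    refine Finset.sum_congr rfl fun a _ => ?_
    rw [Finset.filter_filter, ← card_fiber hμ a, ← hf, ← Finset.card_product]
    congr 1
    ext p
    simp only [Finset.mem_filter, Finset.mem_univ, true_and, Finset.mem_product]
    constructor
    · rintro ⟨h1, h2⟩; exact ⟨h2, h1.symm.trans h2⟩
    · rintro ⟨h1, h2⟩; exact ⟨h1.trans h2.symm, h1⟩
  have htot : n * n = (Finset.univ.filter fun p : Fin n × Fin n => f p.1 < f p.2).card +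
      (Finset.univ.filter fun p : Fin n × Fin n => f p.1 = f p.2).card +
        (Finset.univ.filter fun p : Fin n × Fin n => f p.2 < f p.1).card := by
    simp only [Finset.card_filter, ← Finset.sum_add_distrib]
    rw [Finset.sum_congr rfl (g := fun _ : Fin n × Fin n => 1) fun p _ => ?_]
    · simp
    · rcases lt_trichotomy (f p.1) (f p.2) with h | h | h
      · simp [h, h.ne, not_lt.mpr h.le]
      · simp [h]
      · simp [h, h.ne', not_lt.mpr h.le]
  have hA : 2 * (∑ a, (μ a).choose 2) + n = ∑ a, μ a * μ a := by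
    rw [← Finset.sum_congr rfl (fun a _ => hsq (μ a)), Finset.sum_add_distrib, ← Finset.mul_sum, hμ]
  have := hsq n
  omega

theorem card_parabolicGL [Fintype F] {μ : Fin n → ℕ} (hμ : ∑ i, μ i = n) :
    Nat.card (parabolicGL n F μ) =
      Fintype.card F ^ n.choose 2 * (Fintype.card F - 1) ^ n * ∏ a, qFac (Fintype.card F) (μ a) := by
  classical
  rw [Nat.card_congr (parabolicEquiv hμ), Nat.card_prod, Nat.card_pi,
    Nat.card_eq_fintype_card (α := _ → F), Fintype.card_fun, Fintype.card_subtype]
  have hb : ∀ a : Fin n, Nat.card (GL {i : Fin n // label hμ i = a} F) = Nat.card (GL (Fin (μ a)) F) :=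
    fun a => Nat.card_congr (Units.mapEquiv (Matrix.reindexAlgEquiv F F
      (Fintype.equivFinOfCardEq (by rw [Fintype.card_subtype]; exact card_fiber hμ a))).toMulEquiv).toEquiv
  rw [Finset.prod_congr rfl fun a _ => (hb a).trans (card_GL_eq (F := F) (μ a)),
    Finset.prod_mul_distrib, Finset.prod_mul_distrib, Finset.prod_pow_eq_pow_sum,
    Finset.prod_pow_eq_pow_sum, hμ, ← card_pairs_add_sum_choose hμ, pow_add]
  ring

/-- The q-multinomial index formula. -/
theorem index_mul_qFac [Fintype F] {μ : Fin n → ℕ} (hμ : ∑ i, μ i = n) :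
    Nat.card (GL (Fin n) F ⧸ parabolicGL n F μ) * ∏ a, qFac (Fintype.card F) (μ a) =
      qFac (Fintype.card F) n := by
  have h := Subgroup.card_eq_card_quotient_mul_card_subgroup (parabolicGL n F μ)
  rw [card_GL_eq, card_parabolicGL hμ] at h
  have hpos : 0 < Fintype.card F ^ n.choose 2 * (Fintype.card F - 1) ^ n :=
    mul_pos (pow_pos Fintype.card_pos _) (pow_pos (by have := Fintype.one_lt_card (α := F); omega) _)
  refine Nat.eq_of_mul_eq_mul_left hpos ?_
  rw [h]; ring

end CfsgLib.GLFlags
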