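import Mathlib

/-!
Signed counts of chains of invariant subspaces, indexed by the permutations `κ` with `κ i ≤ i + 1`,
and their Moebius recursion.
-/

set_option autoImplicit false

namespace CfsgLib.GLFlags.Chains

open Finset

/-- Admissible permutations. -/
def Adm {r : ℕ} (κ : Equiv.Perm (Fin r)) : Prop := ∀ i, (κ i).val ≤ i.val + 1

instance {r : ℕ} : DecidablePred (Adm (r := r)) := fun κ => by unfold Adm; infer_instance

/-- The composition attached to a permutation. -/
def comp {r : ℕ} (κ : Equiv.Perm (Fin r)) (i : Fin r) : ℕ := i.val + 1 - (κ i).val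

/-- Partial sums. -/
def cut {r : ℕ} (μ : Fin r → ℕ) (b : ℕ) : ℕ :=
  ∑ k ∈ Finset.univ.filter (fun k : Fin r => k.val < b), μ k

theorem cut_zero {r : ℕ} (μ : Fin r → ℕ) : cut μ 0 = 0 := by simp [cut]

theorem cut_succ {r : ℕ} (μ : Fin (r + 1) → ℕ) (b : ℕ) :
    cut μ (b + 1) = μ 0 + cut (fun i => μ i.succ) b := by
  simp only [cut, Finset.sum_filter, Fin.sum_univ_succ, Fin.val_succ, Fin.val_zero]
  simp

/-- Skipping `d` dimensions above the bottom. -/
def skip (d m : ℕ) : ℕ := if m = 0 then 0 else m + d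

theorem adm_decompose_zero {r : ℕ} (e : Equiv.Perm (Fin r)) :
    Adm (Equiv.Perm.decomposeFin.symm (0, e)) ↔ Adm e := by
  simp [Adm, Fin.forall_fin_succ, Equiv.Perm.decomposeFin_symm_apply_zero,
    Equiv.Perm.decomposeFin_symm_apply_succ]

theorem comp_decompose_zero {r : ℕ} (e : Equiv.Perm (Fin r)) (b : ℕ) :
    cut (comp (Equiv.Perm.decomposeFin.symm (0, e))) (b + 1) = cut (comp e) b + 1 := by
  rw [cut_succ, add_comm]
  simp [comp, cut, Equiv.Perm.decomposeFin_symm_apply_zero, Equiv.Perm.decomposeFin_symm_apply_succ]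

theorem adm_decompose_one {r : ℕ} (e : Equiv.Perm (Fin (r + 1))) :
    Adm (Equiv.Perm.decomposeFin.symm (1, e)) ↔ Adm e := by
  constructor
  · intro h i
    have h' := h i.succ
    rw [Equiv.Perm.decomposeFin_symm_apply_succ] at h'
    rcases Fin.eq_zero_or_eq_succ (e i) with h0 | ⟨j, hj⟩
    · simp [h0]
    · rw [Equiv.swap_apply_of_ne_of_ne (Fin.succ_ne_zero _) (by rw [hj]; simp [Fin.ext_iff])] at h'
      simp only [Fin.val_succ] at h'
      omega
  · intro h i
    refine Fin.cases ?_ (fun i => ?_) i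
    · simp [Equiv.Perm.decomposeFin_symm_apply_zero]
    rw [Equiv.Perm.decomposeFin_symm_apply_succ]
    rcases Fin.eq_zero_or_eq_succ (e i) with h0 | ⟨j, hj⟩
    · simp [h0]
    · rw [Equiv.swap_apply_of_ne_of_ne (Fin.succ_ne_zero _) (by rw [hj]; simp [Fin.ext_iff])]
      have := h i
      simp only [Fin.val_succ]
      omega

theorem cut_eq {r : ℕ} {e : Equiv.Perm (Fin r)} (he : Adm e) (b : ℕ) :
    cut (comp e) b + ∑ i ∈ Finset.univ.filter (fun i : Fin r => i.val < b), (e i).val =
      ∑ i ∈ Finset.univ.filter (fun i : Fin r => i.val < b), (i.val + 1) := by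
  rw [cut, ← Finset.sum_add_distrib]
  exact Finset.sum_congr rfl fun i _ => Nat.sub_add_cancel (he i)

theorem sum_val_succ {r : ℕ} {b : ℕ} (hb : b ≤ r) :
    ∑ i ∈ Finset.univ.filter (fun i : Fin r => i.val < b), (i.val + 1) = ∑ v ∈ Finset.range (b + 1), v := by
  rw [Finset.sum_range_succ' (fun v => v) b, add_zero]
  refine Finset.sum_bij (fun i _ => i.val) ?_ ?_ ?_ ?_
  · intro i hi; simpa using hi
  · intro i _ j _ h; exact Fin.ext h
  · intro v hv; exact ⟨⟨v, lt_of_lt_of_le (Finset.mem_range.mp hv) hb⟩, by simpa using hv, rfl⟩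
  · intro i _; rfl

/-- The cut is the value missed among `0, …, b`. -/
theorem cut_zero_iff {r : ℕ} {e : Equiv.Perm (Fin r)} (he : Adm e) {b : ℕ} (hb : b ≤ r) :
    cut (comp e) b = 0 ↔ ∀ i : Fin r, i.val < b → (e i).val ≠ 0 := by
  classical
  set A := (Finset.univ.filter (fun i : Fin r => i.val < b)).image (fun i => (e i).val) with hA
  have hinj : Set.InjOn (fun i : Fin r => (e i).val) (Finset.univ.filter (fun i : Fin r => i.val < b)) :=
    fun i _ j _ h => e.injective (Fin.ext h)
  have hsub : A ⊆ Finset.range (b + 1) := by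
    intro v hv
    rw [hA, Finset.mem_image] at hv
    obtain ⟨i, hi, rfl⟩ := hv
    have := he i
    simp only [Finset.mem_filter, Finset.mem_univ, true_and] at hi
    simp only [Finset.mem_range]
    omega
  have hcard : A.card = b := by
    rw [hA, Finset.card_image_of_injOn hinj]
    have : Finset.univ.filter (fun i : Fin r => i.val < b) = Finset.univ.map (Fin.castLEEmb hb) := by
      ext i
      simp only [Finset.mem_filter, Finset.mem_univ, true_and, Finset.mem_map]
      exact ⟨fun h => ⟨⟨i.val, h⟩, rfl⟩, fun ⟨a, ha⟩ => ha ▸ a.2⟩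
    rw [this, Finset.card_map, Finset.card_univ, Fintype.card_fin]
  obtain ⟨m, hm⟩ := Finset.card_eq_one.mp (show (Finset.range (b + 1) \ A).card = 1 by
    rw [Finset.card_sdiff_of_subset hsub, hcard, Finset.card_range]; omega)
  have hmissing : cut (comp e) b = m := by
    have h1 := cut_eq he b
    have h2 : ∑ i ∈ Finset.univ.filter (fun i : Fin r => i.val < b), (e i).val = ∑ v ∈ A, v := by
      rw [hA]; exact (Finset.sum_image (f := fun v : ℕ => v) hinj).symm
    rw [sum_val_succ hb, h2, ← Finset.sum_sdiff hsub, hm, Finset.sum_singleton] at h1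
    omega
  have hmem : ∀ v, v ∈ Finset.range (b + 1) \ A ↔ v = m := fun v => by rw [hm]; simp
  rw [hmissing]
  constructor
  · intro h i hi hei
    have := ((hmem 0).mpr h.symm)
    rw [Finset.mem_sdiff] at this
    exact this.2 (Finset.mem_image.mpr ⟨i, by simpa using hi, hei⟩)
  · intro h
    refine ((hmem 0).mp (Finset.mem_sdiff.mpr ⟨by simp, fun h0 => ?_⟩)).symm
    rw [hA, Finset.mem_image] at h0
    obtain ⟨i, hi, hei⟩ := h0
    exact h i (by simpa using hi) hei

theorem comp_decompose_one {r : ℕ} {e : Equiv.Perm (Fin (r + 1))} (he : Adm e) {b : ℕ} (hb : b ≤ r + 1) :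
    cut (comp (Equiv.Perm.decomposeFin.symm (1, e))) (b + 1) = skip 1 (cut (comp e) b) := by
  classical
  have hcomp : ∀ i : Fin (r + 1), comp (Equiv.Perm.decomposeFin.symm (1, e)) i.succ =
      comp e i + if (e i).val = 0 then 1 else 0 := by
    intro i
    have := he i
    simp only [comp, Equiv.Perm.decomposeFin_symm_apply_succ, Fin.val_succ]
    rcases Fin.eq_zero_or_eq_succ (e i) with h0 | ⟨j, hj⟩
    · simp [h0]
    · rw [Equiv.swap_apply_of_ne_of_ne (Fin.succ_ne_zero _) (by rw [hj]; simp [Fin.ext_iff]),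
        if_neg (by rw [hj]; simp)]
      simp only [Fin.val_succ, add_zero]
      omega
  have h0 : comp (Equiv.Perm.decomposeFin.symm (1, e)) 0 = 0 := by
    simp [comp, Equiv.Perm.decomposeFin_symm_apply_zero]
  rw [cut_succ, h0, zero_add]
  simp only [hcomp]
  rw [cut, Finset.sum_add_distrib, Finset.sum_boole, Nat.cast_id]
  show cut (comp e) b + _ = _
  have h1 : ((Finset.univ.filter (fun i : Fin (r + 1) => i.val < b)).filter fun i => (e i).val = 0).card =
      if cut (comp e) b = 0 then 0 else 1 := by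
    by_cases hz : cut (comp e) b = 0
    · rw [if_pos hz, Finset.card_eq_zero, Finset.filter_eq_empty_iff]
      intro i hi
      exact (cut_zero_iff he hb).mp hz i (by simpa using hi)
    · rw [if_neg hz]
      have : ¬ ∀ i : Fin (r + 1), i.val < b → (e i).val ≠ 0 := fun h => hz ((cut_zero_iff he hb).mpr h)
      push Not at this
      obtain ⟨i, hi, hei⟩ := this
      rw [Finset.card_eq_one]
      refine ⟨i, Finset.eq_singleton_iff_unique_mem.mpr ⟨Finset.mem_filter.mpr ⟨by simp [hi], hei⟩, fun j hj => ?_⟩⟩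
      simp only [Finset.mem_filter] at hj
      exact e.injective (Fin.ext (hj.2.trans hei.symm))
  rw [h1, skip]
  split <;> omega

section Count

variable {F : Type*} [Field F] [Fintype F] {V : Type*} [AddCommGroup V] [Module F V] [Finite V]
  (T : Module.End F V)

/-- Invariant subspaces. -/
abbrev Inv (U : Submodule F V) : Prop := ∀ v ∈ U, T v ∈ U

/-- Chains with prescribed dimensions above a given bottom. -/
def ChainSet (r : ℕ) (U : Submodule F V) (m : ℕ → ℕ) : Type _ :=
  {W : Fin (r + 1) → Submodule F V // W 0 = U ∧ Monotone W ∧ (∀ b, Inv T (W b)) ∧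
    ∀ b : Fin (r + 1), Module.finrank F (W b) = Module.finrank F U + m b.val}

instance (r : ℕ) (U : Submodule F V) (m : ℕ → ℕ) : Finite (ChainSet T r U m) := by
  haveI : Finite (Submodule F V) := Finite.of_injective (fun U => (U : Set V)) SetLike.coe_injective
  unfold ChainSet; infer_instance

/-- The signed count. -/
noncomputable def K (r d : ℕ) (U : Submodule F V) : ℤ :=
  ∑ κ : Equiv.Perm (Fin r), if Adm κ then
    ((Equiv.Perm.sign κ : ℤ)) * (Nat.card (ChainSet T r U (fun b => skip d (cut (comp κ) b))) : ℤ) else 0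

theorem K_zero {U : Submodule F V} (hU : Inv T U) (d : ℕ) : K T 0 d U = 1 := by
  have : Nat.card (ChainSet T 0 U (fun b => skip d (cut (comp (1 : Equiv.Perm (Fin 0))) b))) = 1 := by
    rw [Nat.card_eq_one_iff_unique]
    refine ⟨⟨fun a b => Subtype.ext (funext fun i => ?_)⟩, ⟨fun _ => U, rfl, monotone_const, fun _ => hU, fun b => ?_⟩⟩
    · rw [Fin.fin_one_eq_zero i, a.2.1, b.2.1]
    · rw [Fin.fin_one_eq_zero b]; simp [skip, cut_zero]
  rw [K, Fintype.sum_subsingleton _ (1 : Equiv.Perm (Fin 0)), if_pos (show Adm (1 : Equiv.Perm (Fin 0)) from fun i => i.elim0), this]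
  simp

/-- Splitting off the first step. -/
def splitEquiv (r : ℕ) (U : Submodule F V) (hU : Inv T U) (m m' : ℕ → ℕ) (c : ℕ)
    (hm0 : m 0 = 0) (hm : ∀ b ≤ r, m (b + 1) = c + m' b) (hm'0 : m' 0 = 0) :
    ChainSet T (r + 1) U m ≃
      Σ W : {W : Submodule F V // U ≤ W ∧ Inv T W ∧ Module.finrank F W = Module.finrank F U + c},
        ChainSet T r W.1 m' where
  toFun X := ⟨⟨X.1 1, le_of_eq_of_le X.2.1.symm (X.2.2.1 (Fin.zero_le 1)), X.2.2.2.1 1, by
      have h := X.2.2.2.2 1
      rw [show ((1 : Fin (r + 1 + 1)) : ℕ) = 0 + 1 by simp, hm 0 (Nat.zero_le _), hm'0, add_zero] at h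
      exact h⟩,
    ⟨fun b => X.1 b.succ, by simp, fun a b h => X.2.2.1 (Fin.succ_le_succ_iff.mpr h),
      fun b => X.2.2.2.1 _, fun b => by
        have h1 := X.2.2.2.2 b.succ
        have h2 := X.2.2.2.2 1
        rw [Fin.val_succ, hm b.val (Nat.lt_succ_iff.mp b.2)] at h1
        rw [show ((1 : Fin (r + 1 + 1)) : ℕ) = 0 + 1 by simp, hm 0 (Nat.zero_le _), hm'0, add_zero] at h2
        show Module.finrank F (X.1 b.succ) = Module.finrank F (X.1 1) + m' b.val
        omega⟩⟩
  invFun P := ⟨Fin.cons U P.2.1, by simp, by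
      refine Fin.monotone_iff_le_succ.mpr fun i => ?_
      refine Fin.cases ?_ (fun j => ?_) i
      · simp only [Fin.castSucc_zero, Fin.cons_zero, Fin.cons_succ, P.2.2.1]
        exact P.1.2.1
      · simp only [← Fin.succ_castSucc, Fin.cons_succ]
        exact P.2.2.2.1 (Fin.castSucc_le_succ j),
    fun b => Fin.cases (by simpa using hU) (fun j => by simpa using P.2.2.2.2.1 j) b, fun b => by
      refine Fin.cases ?_ (fun j => ?_) b
      · simp only [Fin.val_zero, hm0, add_zero]
        rfl
      · show Module.finrank F (P.2.1 j) = _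
        rw [Fin.val_succ, hm j.val (Nat.lt_succ_iff.mp j.2), P.2.2.2.2.2 j, P.1.2.2.2]
        omega⟩
  left_inv X := by
    apply Subtype.ext
    funext b
    refine Fin.cases ?_ (fun j => ?_) b
    · simp [X.2.1]
    · simp
  right_inv P := by
    obtain ⟨⟨W, hW⟩, ⟨f, hf0, hf⟩⟩ := P
    obtain rfl : W = f 0 := hf0.symm
    rfl

/-- Not moving at the first step. -/
def stayEquiv (r : ℕ) (U : Submodule F V) (hU : Inv T U) (m m' : ℕ → ℕ)
    (hm0 : m 0 = 0) (hm : ∀ b ≤ r, m (b + 1) = m' b) (hm'0 : m' 0 = 0) :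
    ChainSet T (r + 1) U m ≃ ChainSet T r U m' :=
  (splitEquiv T r U hU m m' 0 hm0 (fun b hb => (hm b hb).trans (zero_add _).symm) hm'0).trans
    { toFun := fun P => ⟨P.2.1, by
          have h : U = P.1.1 := Submodule.eq_of_le_of_finrank_eq P.1.2.1 (by rw [P.1.2.2.2, add_zero])
          exact P.2.2.1.trans h.symm, P.2.2.2.1, P.2.2.2.2.1, fun b => by
          rw [P.2.2.2.2.2 b, P.1.2.2.2, add_zero]⟩
      invFun := fun X => ⟨⟨U, le_rfl, hU, (add_zero _).symm⟩, X⟩
      left_inv := fun P => by
        obtain ⟨⟨W, hW⟩, X⟩ := P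
        have h : U = W := Submodule.eq_of_le_of_finrank_eq hW.1 (by rw [hW.2.2, add_zero])
        subst h
        rfl
      right_inv := fun X => rfl }

open scoped Classical in
/-- Invariant subspaces above `U`, of codimension `c` over it. -/
noncomputable def above (U : Submodule F V) (c : ℕ) : Finset (Submodule F V) :=
  haveI : Finite (Submodule F V) := Finite.of_injective (fun U => (U : Set V)) SetLike.coe_injective
  haveI := Fintype.ofFinite (Submodule F V)
  Finset.univ.filter fun W => U ≤ W ∧ Inv T W ∧ Module.finrank F W = Module.finrank F U + c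

theorem mem_above {U W : Submodule F V} {c : ℕ} :
    W ∈ above T U c ↔ U ≤ W ∧ Inv T W ∧ Module.finrank F W = Module.finrank F U + c := by
  classical
  simp [above]

/-- The recursion on the first step. -/
theorem K_succ {U : Submodule F V} (hU : Inv T U) (r d : ℕ) :
    K T (r + 1) d U = ∑ W ∈ above T U (1 + d), K T r 0 W - if r = 0 then 0 else K T r (d + 1) U := by
  classical
  unfold K
  rw [← Equiv.sum_comp Equiv.Perm.decomposeFin.symm, Fintype.sum_prod_type, Fin.sum_univ_succ]
  have hfirst : ∀ e : Equiv.Perm (Fin r),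
      (if Adm (Equiv.Perm.decomposeFin.symm (0, e)) then
        ((Equiv.Perm.sign (Equiv.Perm.decomposeFin.symm (0, e)) : ℤ)) *
          (Nat.card (ChainSet T (r + 1) U (fun b => skip d (cut (comp (Equiv.Perm.decomposeFin.symm (0, e))) b))) : ℤ)
        else 0) =
      ∑ W ∈ above T U (1 + d), if Adm e then
        ((Equiv.Perm.sign e : ℤ)) * (Nat.card (ChainSet T r W (fun b => skip 0 (cut (comp e) b))) : ℤ) else 0 := by
    intro e
    simp only [adm_decompose_zero]
    by_cases he : Adm e
    · haveI : Finite (Submodule F V) := Finite.of_injective (fun U => (U : Set V)) SetLike.coe_injective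
      rw [if_pos he, Nat.card_congr (splitEquiv T r U hU _ (fun b => skip 0 (cut (comp e) b)) (1 + d)
        (by simp [skip, cut_zero]) (fun b _ => by simp only [comp_decompose_zero, skip]; rw [if_neg (Nat.succ_ne_zero _)]; split <;> omega)
        (by simp [skip, cut_zero]))]
      haveI := Fintype.ofFinite {W : Submodule F V // U ≤ W ∧ Inv T W ∧ Module.finrank F W = Module.finrank F U + (1 + d)}
      simp only [if_pos he]
      rw [Nat.card_sigma, Nat.cast_sum, Finset.mul_sum, Equiv.Perm.decomposeFin.symm_sign, if_pos rfl, one_mul,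
        ← Finset.sum_subtype (above T U (1 + d)) (fun W => mem_above T)
          (fun W => ((Equiv.Perm.sign e : ℤ)) * (Nat.card (ChainSet T r W (fun b => skip 0 (cut (comp e) b))) : ℤ))]
    · simp [he]
  rw [Finset.sum_congr rfl fun e _ => hfirst e, Finset.sum_comm, sub_eq_add_neg]
  congr 1
  rcases Nat.eq_zero_or_pos r with rfl | hr
  · simp
  obtain ⟨r, rfl⟩ := Nat.exists_eq_succ_of_ne_zero hr.ne'
  rw [if_neg (Nat.succ_ne_zero r), Fin.sum_univ_succ, Finset.sum_eq_zero (s := (Finset.univ : Finset (Fin r))),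
    add_zero, ← Finset.sum_neg_distrib]
  · refine Finset.sum_congr rfl fun e _ => ?_
    rw [show (Fin.succ (0 : Fin (r + 1))) = 1 from rfl]
    simp only [adm_decompose_one]
    by_cases he : Adm e
    · rw [if_pos he, if_pos he, Nat.card_congr (stayEquiv T (r + 1) U hU _ (fun b => skip (d + 1) (cut (comp e) b))
        (by simp [skip, cut_zero]) (fun b hb => by
          simp only [comp_decompose_one he hb, skip]; split_ifs <;> omega)
        (by simp [skip, cut_zero])), Equiv.Perm.decomposeFin.symm_sign, if_neg (by simp [Fin.ext_iff]),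
        Units.val_mul, Units.val_neg, Units.val_one]
      ring
    · simp [he]
  · intro j _
    refine Finset.sum_eq_zero fun e _ => if_neg fun h => ?_
    have := h 0
    simp [Equiv.Perm.decomposeFin_symm_apply_zero] at this

/-- The alternating sum at the top-indexed count. -/
noncomputable def sig (U : Submodule F V) : ℤ :=
  (-1) ^ (Module.finrank F V - Module.finrank F U) * K T (Module.finrank F V - Module.finrank F U) 0 U

theorem K_solve : ∀ (r d : ℕ) {U : Submodule F V}, Inv T U →
    Module.finrank F U + d + r = Module.finrank F V →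
    (if r = 0 then 0 else K T r d U) = -((-1) ^ r * ∑ j ∈ Finset.range r, ∑ W ∈ above T U (d + 1 + j), sig T W) := by
  intro r
  induction r with
  | zero => intro d U hU h; simp
  | succ r ih =>
    intro d U hU h
    rw [if_neg (Nat.succ_ne_zero r), K_succ T hU, ih (d + 1) hU (by omega), Finset.sum_range_succ', add_zero]
    have h1 : ∑ W ∈ above T U (1 + d), K T r 0 W = (-1) ^ r * ∑ W ∈ above T U (d + 1), sig T W := by
      rw [add_comm 1 d, Finset.mul_sum]
      refine Finset.sum_congr rfl fun W hW => ?_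
      have := ((mem_above T).mp hW).2.2
      rw [sig, show Module.finrank F V - Module.finrank F W = r by omega, ← mul_assoc, ← mul_pow]
      simp
    rw [h1, pow_succ]
    simp only [Nat.add_comm _ 1, Nat.add_left_comm _ 1, Nat.add_assoc]
    ring

open scoped Classical in
/-- The Moebius relation. -/
theorem sum_sig {U : Submodule F V} (hU : Inv T U) (hne : U ≠ ⊤) [Fintype (Submodule F V)] :
    ∑ W ∈ Finset.univ.filter (fun W => U ≤ W ∧ Inv T W), sig T W = 0 := by
  set r := Module.finrank F V - Module.finrank F U with hr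
  have hle := Submodule.finrank_le U
  have hr0 : r ≠ 0 := fun h => hne (Submodule.eq_top_of_finrank_eq (by omega))
  have h := K_solve T r 0 hU (by omega)
  rw [if_neg hr0] at h
  have hsplit : ∑ W ∈ Finset.univ.filter (fun W => U ≤ W ∧ Inv T W), sig T W =
      ∑ c ∈ Finset.range (r + 1), ∑ W ∈ above T U c, sig T W := by
    rw [← Finset.sum_biUnion (fun a _ b _ hab => Finset.disjoint_left.mpr fun W ha hb => hab (by
      have := ((mem_above T).mp ha).2.2
      have := ((mem_above T).mp hb).2.2
      omega))]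
    refine Finset.sum_congr (Finset.ext fun W => ?_) fun _ _ => rfl
    simp only [Finset.mem_filter, Finset.mem_univ, true_and, Finset.mem_biUnion, Finset.mem_range, mem_above]
    constructor
    · rintro ⟨h1, h2⟩
      have := Submodule.finrank_mono h1
      have := Submodule.finrank_le W
      exact ⟨Module.finrank F W - Module.finrank F U, by omega, h1, h2, by omega⟩
    · rintro ⟨c, -, h1, h2, -⟩; exact ⟨h1, h2⟩
  have hzero : above T U 0 = {U} := by
    ext W
    rw [mem_above, Finset.mem_singleton]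
    refine ⟨fun h => (Submodule.eq_of_le_of_finrank_eq h.1 (by omega)).symm, fun h => by subst h; exact ⟨le_rfl, hU, rfl⟩⟩
  rw [hsplit, Finset.sum_range_succ', hzero, Finset.sum_singleton]
  have hsig : sig T U = (-1) ^ r * K T r 0 U := rfl
  rw [hsig, h, mul_neg, ← mul_assoc, ← mul_pow]
  simp [Nat.add_comm 1]

theorem sig_top (hT : Inv T ⊤) : sig T ⊤ = 1 := by
  rw [sig, finrank_top, Nat.sub_self, pow_zero, one_mul, K_zero T hT]

end Count

end CfsgLib.GLFlags.Chains
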