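import Mathlib
import Cfsg.Agent.Lib.SemisimpleClasses
import Cfsg.Agent.Lib.GLFlags.SteinbergChains

/-!
The Moebius function of the invariant subspaces of a semisimple endomorphism over a finite field.
-/

set_option autoImplicit false

namespace CfsgLib.GLFlags.Chains

open Polynomial UniqueFactorizationMonoid
open CfsgLib.SemisimpleClasses

variable {F : Type*} [Field F] [Fintype F]

open scoped Classical in
/-- The irreducible factors of a characteristic polynomial. -/
noncomputable def facs {E : Type*} [AddCommGroup E] [Module F E] [FiniteDimensional F E] (T : Module.End F E) :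
    Multiset F[X] := normalizedFactors T.charpoly

open scoped Classical in
/-- The predicted value. -/
noncomputable def val (s : Multiset F[X]) : ℤ :=
  ∏ f ∈ s.toFinset, (-1) ^ s.count f * ((Fintype.card F : ℤ) ^ f.natDegree) ^ (s.count f).choose 2

open scoped Classical in
theorem val_cons (f : F[X]) (s : Multiset F[X]) :
    val (f ::ₘ s) = -((Fintype.card F : ℤ) ^ (f.natDegree * s.count f)) * val s := by
  have hS : ∀ t : Multiset F[X], t.toFinset ⊆ insert f s.toFinset → val t =
      ∏ g ∈ insert f s.toFinset, (-1) ^ t.count g * ((Fintype.card F : ℤ) ^ g.natDegree) ^ (t.count g).choose 2 := by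
    intro t ht
    refine Finset.prod_subset ht fun g _ hg => ?_
    rw [Multiset.count_eq_zero.mpr (by simpa using hg)]
    simp
  rw [hS s (Finset.subset_insert _ _), hS (f ::ₘ s) (by simp), ← Finset.mul_prod_erase _ _ (Finset.mem_insert_self f _),
    ← Finset.mul_prod_erase _ _ (Finset.mem_insert_self f _), Multiset.count_cons_self, Nat.choose_succ_succ',
    Nat.choose_one_right]
  have hrest : ∀ g ∈ (insert f s.toFinset).erase f, (-1 : ℤ) ^ (f ::ₘ s).count g *
      ((Fintype.card F : ℤ) ^ g.natDegree) ^ ((f ::ₘ s).count g).choose 2 =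
      (-1) ^ s.count g * ((Fintype.card F : ℤ) ^ g.natDegree) ^ (s.count g).choose 2 := fun g hg => by
    rw [Multiset.count_cons_of_ne (Finset.ne_of_mem_erase hg)]
  rw [Finset.prod_congr rfl hrest, pow_succ, pow_add, ← pow_mul]
  ring

section Space

variable {E : Type*} [AddCommGroup E] [Module F E] [FiniteDimensional F E] {T : Module.End F E}

theorem inv_sup {U W : Submodule F E} (hU : Inv T U) (hW : Inv T W) : Inv T (U ⊔ W) := by
  intro v hv
  obtain ⟨u, hu, w, hw, rfl⟩ := Submodule.mem_sup.mp hv
  rw [map_add]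
  exact Submodule.add_mem_sup (hU u hu) (hW w hw)

theorem inv_inf {U W : Submodule F E} (hU : Inv T U) (hW : Inv T W) : Inv T (U ⊓ W) :=
  fun v hv => ⟨hU v hv.1, hW v hv.2⟩

theorem aeval_mem {U : Submodule F E} (hU : Inv T U) (P : F[X]) {v : E} (hv : v ∈ U) : aeval T P v ∈ U := by
  induction P using Polynomial.induction_on with
  | C a => simpa [Module.algebraMap_end_apply] using U.smul_mem a hv
  | add p q hp hq => rw [map_add]; exact U.add_mem hp hq
  | monomial n a ih =>
    rw [pow_succ, ← mul_assoc, mul_comm _ X, map_mul, Module.End.mul_apply, aeval_X]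
    exact hU _ ih

theorem aeval_restrict {U : Submodule F E} (hU : Inv T U) (P : F[X]) (v : U) :
    ((aeval (LinearMap.restrict T hU) P) v : E) = aeval T P v := by
  induction P using Polynomial.induction_on with
  | C a => simp [Module.algebraMap_end_apply]
  | add p q hp hq => simp [hp, hq]
  | monomial n a ih =>
    rw [pow_succ, ← mul_assoc, mul_comm _ X, map_mul (aeval (LinearMap.restrict T hU)), map_mul (aeval T),
      Module.End.mul_apply, Module.End.mul_apply, aeval_X, aeval_X, LinearMap.restrict_apply, ← ih]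

/-- The cyclic subspace of a vector. -/
noncomputable def cyc (T : Module.End F E) (f : F[X]) (v : E) : Submodule F E :=
  LinearMap.range (cycMap T f.natDegree v)

theorem self_mem_cyc (T : Module.End F E) {f : F[X]} (hf : Irreducible f) (v : E) : v ∈ cyc T f v :=
  ⟨⟨1, mem_degreeLT.mpr (by rw [degree_one]; exact_mod_cast hf.natDegree_pos)⟩, by simp [cycMap_apply]⟩

theorem inv_cyc {f : F[X]} (hf : Irreducible f) (hm : f.Monic) {v : E} (hk : aeval T f v = 0) :
    Inv T (cyc T f v) := by
  rintro _ ⟨P, rfl⟩
  exact ⟨_, (cycMap_step T hm hf.natDegree_pos hk P).symm⟩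

theorem finrank_cyc {f : F[X]} (hf : Irreducible f) {v : E} (hv : v ≠ 0) (hk : aeval T f v = 0) :
    Module.finrank F (cyc T f v) = f.natDegree := by
  rw [cyc, LinearMap.finrank_range_of_inj (cycMap_injective T hf hv hk),
    Module.finrank_eq_card_basis ((Pi.basisFun F _).map (degreeLTEquiv F f.natDegree).symm), Fintype.card_fin]

theorem cyc_le {f : F[X]} {W : Submodule F E} (hW : Inv T W) {v : E} (hv : v ∈ W) : cyc T f v ≤ W := by
  rintro _ ⟨P, rfl⟩
  exact aeval_mem hW _ hv

theorem killed_cyc {f : F[X]} {v w : E} (hk : aeval T f v = 0) (hw : w ∈ cyc T f v) : aeval T f w = 0 := by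
  obtain ⟨P, rfl⟩ := hw
  rw [cycMap_apply, ← Module.End.mul_apply, ← map_mul, mul_comm, map_mul, Module.End.mul_apply, hk, map_zero]

/-- Simple invariant subspaces. -/
theorem cyc_simple {f : F[X]} (hf : Irreducible f) {v : E} (hk : aeval T f v = 0) {W : Submodule F E}
    (hW : Inv T W) {w : E} (hw : w ∈ cyc T f v) (hwW : w ∈ W) (hw0 : w ≠ 0) : cyc T f v ≤ W := by
  have hv : v ≠ 0 := by
    rintro rfl
    obtain ⟨P, rfl⟩ := hw
    exact hw0 (by simp [cycMap_apply])
  have h1 : cyc T f w ≤ cyc T f v ⊓ W := by
    refine le_inf ?_ (cyc_le hW hwW)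
    rintro _ ⟨P, rfl⟩
    obtain ⟨Q, rfl⟩ := hw
    have hmem : v ∈ cyc T f v := self_mem_cyc T hf v
    rw [cycMap_apply, cycMap_apply, ← Module.End.mul_apply, ← map_mul]
    obtain ⟨r, hr⟩ : ∃ r, r = ((P : F[X]) * (Q : F[X])) %ₘ (C f.leadingCoeff⁻¹ * f) := ⟨_, rfl⟩
    have hmon : (C f.leadingCoeff⁻¹ * f).Monic := by
      rw [mul_comm]; exact monic_mul_leadingCoeff_inv hf.ne_zero
    refine ⟨⟨r, mem_degreeLT.mpr ?_⟩, ?_⟩
    · rw [hr]
      refine lt_of_lt_of_eq (degree_modByMonic_lt _ hmon) ?_
      rw [degree_C_mul (inv_ne_zero (leadingCoeff_ne_zero.mpr hf.ne_zero)), degree_eq_natDegree hf.ne_zero]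
    · rw [cycMap_apply]
      have he := modByMonic_add_div ((P : F[X]) * (Q : F[X])) (C f.leadingCoeff⁻¹ * f)
      show aeval T r v = _
      conv_rhs => rw [← he]
      rw [hr, map_add, LinearMap.add_apply,
        show C f.leadingCoeff⁻¹ * f * ((P : F[X]) * (Q : F[X]) /ₘ (C f.leadingCoeff⁻¹ * f)) =
          (C f.leadingCoeff⁻¹ * ((P : F[X]) * (Q : F[X]) /ₘ (C f.leadingCoeff⁻¹ * f))) * f by ring,
        map_mul _ _ f, Module.End.mul_apply, hk, map_zero, add_zero]
  have h2 : cyc T f w = cyc T f v := Submodule.eq_of_le_of_finrank_eq (h1.trans inf_le_left)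
    (by rw [finrank_cyc hf hw0 (killed_cyc hk hw), finrank_cyc hf hv hk])
  rw [← h2]; exact h1.trans inf_le_right

theorem cp_sup {A B D : Submodule F E} (hA : Inv T A) (hB : Inv T B) (hD : Inv T D)
    (hd : Disjoint A B) (hs : A ⊔ B = D) :
    (LinearMap.restrict T hD).charpoly =
      (LinearMap.restrict T hA).charpoly * (LinearMap.restrict T hB).charpoly := by
  have hAD : A ≤ D := hs ▸ le_sup_left
  have hBD : B ≤ D := hs ▸ le_sup_right
  let φ : A × B →ₗ[F] D := (Submodule.inclusion hAD).coprod (Submodule.inclusion hBD)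
  have hφ : ∀ x, (φ x : E) = x.1.1 + x.2.1 := fun x => rfl
  have hbij : Function.Bijective φ := by
    constructor
    · rw [← LinearMap.ker_eq_bot, Submodule.eq_bot_iff]
      rintro ⟨a, b⟩ h
      have h0 : (a : E) + b = 0 := (hφ (a, b)).symm.trans (congrArg Subtype.val h)
      have ha : (a : E) = 0 := Submodule.disjoint_def.mp hd a a.2 (by
        rw [eq_neg_of_add_eq_zero_left h0]; exact B.neg_mem b.2)
      rw [ha, zero_add] at h0
      exact Prod.ext (Subtype.ext ha) (Subtype.ext h0)
    · rintro ⟨d, hd'⟩
      rw [← hs] at hd'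
      obtain ⟨a, ha, b, hb, rfl⟩ := Submodule.mem_sup.mp hd'
      exact ⟨(⟨a, ha⟩, ⟨b, hb⟩), Subtype.ext rfl⟩
  let e := LinearEquiv.ofBijective φ hbij
  have : LinearMap.restrict T hD = e.conj (LinearMap.prodMap (LinearMap.restrict T hA) (LinearMap.restrict T hB)) := by
    refine LinearMap.ext fun x => ?_
    obtain ⟨⟨a, b⟩, rfl⟩ := e.surjective x
    apply Subtype.ext
    rw [LinearEquiv.conj_apply]
    simp [e, hφ, LinearMap.restrict_apply]
  rw [this, LinearEquiv.charpoly_conj, LinearMap.charpoly_prodMap]

theorem facs_sup {A B D : Submodule F E} (hA : Inv T A) (hB : Inv T B) (hD : Inv T D)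
    (hd : Disjoint A B) (hs : A ⊔ B = D) :
    facs (LinearMap.restrict T hD) = facs (LinearMap.restrict T hA) + facs (LinearMap.restrict T hB) := by
  classical
  unfold facs
  rw [cp_sup hA hB hD hd hs, normalizedFactors_mul (LinearMap.charpoly_monic _).ne_zero
    (LinearMap.charpoly_monic _).ne_zero]

open scoped Classical in
theorem facs_killed {f : F[X]} (hf : Irreducible f) (hm : f.Monic) (hk : ∀ v, aeval T f v = 0) :
    f.natDegree * (facs T).count f = Module.finrank F E ∧ facs T = Multiset.replicate ((facs T).count f) f := by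
  have hall : ∀ g ∈ facs T, g = f := by
    intro g hg
    have hgi := irreducible_of_normalized_factor g hg
    obtain ⟨v, hv, hgv⟩ := exists_killed T hgi (dvd_of_mem_normalizedFactors hg)
    have hgm : g.Monic := ((Polynomial.mem_normalizedFactors_iff (LinearMap.charpoly_monic T).ne_zero).mp hg).2.1
    by_contra hne
    obtain ⟨a, b, hab⟩ := (hgi.coprime_iff_not_dvd (n := f)).mpr fun hd =>
      hne (eq_of_monic_of_associated hgm hm (hgi.associated_of_dvd hf hd))
    refine hv ?_
    have := congrArg (fun Q => aeval T Q v) hab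
    simp only [map_add, map_mul, map_one, LinearMap.add_apply, Module.End.mul_apply, Module.End.one_apply,
      hgv, hk v, map_zero, add_zero] at this
    exact this.symm
  have hrep := Multiset.eq_replicate_card.mpr hall
  have hcount : (facs T).count f = (facs T).card := by
    conv_lhs => rw [hrep, Multiset.count_replicate_self]
  refine ⟨?_, by rw [hcount]; exact hrep⟩
  have hp := leadingCoeff_mul_prod_normalizedFactors T.charpoly
  rw [(LinearMap.charpoly_monic T).leadingCoeff, C_1, one_mul] at hp
  rw [← T.charpoly_natDegree, hcount, ← hp]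
  conv_rhs => rw [show normalizedFactors T.charpoly = facs T from rfl, hrep, Multiset.prod_replicate, natDegree_pow]
  ring

/-- The kernel of an irreducible polynomial of a semisimple endomorphism. -/
theorem card_killed (hss : T.IsSemisimple) {f : F[X]} (hf : Irreducible f) (hm : f.Monic) :
    open scoped Classical in
    Nat.card (LinearMap.ker (aeval T f)) = Fintype.card F ^ (f.natDegree * (facs T).count f) := by
  classical
  have hK : Inv T (LinearMap.ker (aeval T f)) := fun v hv => by
    rw [LinearMap.mem_ker] at hv ⊢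
    have hc : aeval T f * T = T * aeval T f := by simpa using congrArg (aeval T) (mul_comm f X)
    rw [← Module.End.mul_apply, hc, Module.End.mul_apply, hv, map_zero]
  obtain ⟨R, hR, hKR⟩ := (Module.End.isSemisimple_iff.mp hss) _ ((Module.End.mem_invtSubmodule T).mpr hK)
  have hR' : Inv T R := (Module.End.mem_invtSubmodule T).mp hR
  set K := LinearMap.ker (aeval T f) with hKdef
  have hkill : ∀ v : K, aeval (LinearMap.restrict T hK) f v = 0 := fun v =>
    Subtype.ext (by rw [aeval_restrict]; exact LinearMap.mem_ker.mp v.2)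
  have hnot : (facs (LinearMap.restrict T hR')).count f = 0 := by
    rw [Multiset.count_eq_zero]
    intro hmem
    obtain ⟨v, hv, hfv⟩ := exists_killed _ hf (dvd_of_mem_normalizedFactors hmem)
    have h1 : (v : E) ∈ K := by
      rw [hKdef, LinearMap.mem_ker, ← aeval_restrict hR', hfv, Submodule.coe_zero]
    exact hv (Subtype.ext (Submodule.disjoint_def.mp hKR.disjoint v h1 v.2))
  have hdec : (facs T).count f = (facs (LinearMap.restrict T hK)).count f := by
    have h1 : facs T = facs (LinearMap.restrict T hK) + facs (LinearMap.restrict T hR') := by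
      unfold facs
      rw [charpoly_decomp T hK hR' hKR, normalizedFactors_mul (LinearMap.charpoly_monic _).ne_zero
        (LinearMap.charpoly_monic _).ne_zero]
    rw [h1, Multiset.count_add, hnot, add_zero]
  rw [hdec, (facs_killed hf hm hkill).1, Module.natCard_eq_pow_finrank (K := F), Nat.card_eq_fintype_card]

end Space

section Lattice

variable {V : Type*} [AddCommGroup V] [Module F V] [Finite V] {T : Module.End F V}

open scoped Classical in
/-- Weisner's relation, dual form: the complements of a maximal invariant subspace. -/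
theorem sum_sig_complements [Fintype (Submodule F V)] {C : Submodule F V} (hC : Inv T C)
    (hmax : ∀ W, Inv T W → C ≤ W → W = C ∨ W = ⊤) (hT : Inv T (⊤ : Submodule F V)) :
    ∀ {U : Submodule F V}, Inv T U → U ≤ C → C ≠ ⊤ →
      ∑ W ∈ Finset.univ.filter (fun W => Inv T W ∧ W ⊓ C = U), sig T W = 0 := by
  intro U
  induction U using (inferInstance : WellFoundedGT (Submodule F V)).induction with
  | _ U ih =>
    intro hU hUC hCne
    have hall := sum_sig T hU (fun h => hCne (top_le_iff.mp (h ▸ hUC)))
    rw [← Finset.sum_fiberwise_of_maps_to (s := Finset.univ.filter (fun W => U ≤ W ∧ Inv T W))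
      (t := Finset.univ.filter (fun U' => Inv T U' ∧ U ≤ U' ∧ U' ≤ C)) (g := fun W => W ⊓ C)
      (fun W hW => by
        simp only [Finset.coe_filter, Finset.mem_univ, true_and, Set.mem_setOf_eq, Finset.mem_filter] at hW ⊢
        exact ⟨inv_inf hW.2 hC, le_inf hW.1 hUC, inf_le_right⟩)] at hall
    have hrest : ∀ U' ∈ Finset.univ.filter (fun U' => Inv T U' ∧ U ≤ U' ∧ U' ≤ C), U' ≠ U →
        ∑ W ∈ (Finset.univ.filter (fun W => U ≤ W ∧ Inv T W)).filter (fun W => W ⊓ C = U'), sig T W = 0 := by
      intro U' hU' hne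
      simp only [Finset.mem_filter, Finset.mem_univ, true_and] at hU'
      rw [← ih U' (lt_of_le_of_ne hU'.2.1 hne.symm) hU'.1 hU'.2.2 hCne]
      refine Finset.sum_congr (Finset.ext fun W => ?_) fun _ _ => rfl
      simp only [Finset.mem_filter, Finset.mem_univ, true_and]
      exact ⟨fun h => ⟨h.1.2, h.2⟩, fun h => ⟨⟨hU'.2.1.trans (h.2 ▸ inf_le_left), h.1⟩, h.2⟩⟩
    rw [Finset.sum_eq_single U hrest (fun h => absurd (Finset.mem_filter.mpr ⟨Finset.mem_univ _, hU, le_rfl, hUC⟩) h)] at hall
    rw [← hall]
    refine Finset.sum_congr (Finset.ext fun W => ?_) fun _ _ => rfl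
    simp only [Finset.mem_filter, Finset.mem_univ, true_and]
    exact ⟨fun h => ⟨⟨h.2 ▸ inf_le_left, h.1⟩, h.2⟩, fun h => ⟨h.1.2, h.2⟩⟩

/-- The value at an invariant subspace, in terms of an invariant complement. -/
theorem sig_eq_val (hss : T.IsSemisimple) : ∀ (k : ℕ) {U D : Submodule F V} (hU : Inv T U) (hD : Inv T D),
    IsCompl U D → Module.finrank F D = k → sig T U = val (facs (LinearMap.restrict T hD)) := by
  intro k
  induction k using Nat.strong_induction_on with
  | _ k ih =>
    intro U D hU hD hUD hk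
    classical
    have hT : Inv T (⊤ : Submodule F V) := fun _ _ => trivial
    haveI : Finite (Submodule F V) := Finite.of_injective (fun U => (U : Set V)) SetLike.coe_injective
    haveI := Fintype.ofFinite (Submodule F V)
    set S := LinearMap.restrict T hD with hS
    by_cases hk0 : k = 0
    · have hfe : facs S = 0 := by
        unfold facs
        rw [(LinearMap.charpoly_monic S).natDegree_eq_zero.mp (by rw [S.charpoly_natDegree, hk, hk0]), normalizedFactors_one]
      have hU1 : U = ⊤ := by
        rw [← hUD.sup_eq_top, Submodule.finrank_eq_zero.mp (hk.trans hk0), sup_bot_eq]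
      subst hU1
      rw [sig_top T hT, hfe]
      simp [val]
    obtain ⟨f, hm, hf, hfd⟩ := exists_monic_irreducible_factor S.charpoly (by
      intro hu
      have := natDegree_eq_zero_of_isUnit hu
      rw [S.charpoly_natDegree, hk] at this
      exact hk0 this)
    obtain ⟨v', hv', hkv'⟩ := exists_killed S hf hfd
    set v : V := v'.1 with hvdef
    have hv : v ≠ 0 := fun h => hv' (Subtype.ext h)
    have hkv : aeval T f v = 0 := by rw [hvdef, ← aeval_restrict hD, hkv', Submodule.coe_zero]
    set L := cyc T f v with hLdef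
    have hL : Inv T L := inv_cyc hf hm hkv
    have hLD : L ≤ D := cyc_le hD v'.2
    obtain ⟨R, hR, hLR⟩ := (Module.End.isSemisimple_iff.mp hss) L ((Module.End.mem_invtSubmodule T).mpr hL)
    set D' := D ⊓ R with hD'def
    have hD' : Inv T D' := inv_inf hD ((Module.End.mem_invtSubmodule T).mp hR)
    have hdj : Disjoint L D' := hLR.disjoint.mono_right inf_le_right
    have hsup : L ⊔ D' = D := by
      rw [hD'def, inf_comm, ← sup_inf_assoc_of_le R hLD, hLR.sup_eq_top, top_inf_eq]
    set C := U ⊔ D' with hCdef
    have hC : Inv T C := inv_sup hU hD'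
    have hCL : C ⊔ L = ⊤ := by
      rw [hCdef, sup_assoc, sup_comm D' L, hsup, hUD.sup_eq_top]
    have hmodular : ∀ {u d : V}, u ∈ U → d ∈ D → u + d = 0 → u = 0 ∧ d = 0 := fun {u d} hu hd h => by
      have h1 : u = 0 := Submodule.disjoint_def.mp hUD.disjoint u hu (by
        rw [eq_neg_of_add_eq_zero_left h]; exact D.neg_mem hd)
      exact ⟨h1, by rw [h1, zero_add] at h; exact h⟩
    have hvC : v ∉ C := by
      intro hvC
      obtain ⟨u, hu, d, hd, he⟩ := Submodule.mem_sup.mp hvC
      have h2 := hmodular hu (D.sub_mem (inf_le_left (b := R) hd) v'.2) (by rw [← hvdef, ← he]; abel)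
      exact hv (Submodule.disjoint_def.mp hdj v (self_mem_cyc T hf v) (by
        rw [h2.1, zero_add] at he; exact he ▸ hd))
    have hCne : C ≠ ⊤ := fun h => hvC (h ▸ Submodule.mem_top)
    have hmax : ∀ W, Inv T W → C ≤ W → W = C ∨ W = ⊤ := by
      intro W hW hCW
      by_cases h : ∃ w ∈ L, w ∈ W ∧ w ≠ 0
      · obtain ⟨w, hwL, hwW, hw0⟩ := h
        exact Or.inr (top_le_iff.mp (hCL ▸ sup_le hCW (cyc_simple hf hkv hW hwL hwW hw0)))
      · push Not at h
        refine Or.inl (le_antisymm (fun w hw => ?_) hCW)
        obtain ⟨c, hc, l, hl, rfl⟩ := Submodule.mem_sup.mp (hCL.symm ▸ Submodule.mem_top : w ∈ C ⊔ L)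
        rw [h l hl (by simpa using W.sub_mem hw (hCW hc)), add_zero]
        exact hc
    have hweis := sum_sig_complements hC hmax hT hU le_sup_left hCne
    have hUmem : U ∈ Finset.univ.filter (fun W => Inv T W ∧ W ⊓ C = U) := by
      simp only [Finset.mem_filter, Finset.mem_univ, true_and]
      exact ⟨hU, inf_eq_left.mpr le_sup_left⟩
    rw [← Finset.add_sum_erase _ _ hUmem, add_eq_zero_iff_eq_neg] at hweis
    rw [hweis]
    -- the complements
    set S' := LinearMap.restrict T hD' with hS'
    have hprops : ∀ x : LinearMap.ker (aeval S' f),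
        aeval T f (v + x.1.1) = 0 ∧ v + x.1.1 ≠ 0 ∧ v + x.1.1 ∉ C := fun x => by
      have hxC : (x.1.1 : V) ∈ C := Submodule.mem_sup_right x.1.2
      refine ⟨?_, fun h => hvC ?_, fun h => hvC (by simpa using C.sub_mem h hxC)⟩
      · rw [map_add, hkv, zero_add, ← aeval_restrict hD', LinearMap.mem_ker.mp x.2, Submodule.coe_zero]
      · rw [eq_neg_of_add_eq_zero_left h]; exact C.neg_mem hxC
    let Φ : LinearMap.ker (aeval S' f) → Submodule F V := fun x => U ⊔ cyc T f (v + x.1.1)
    have hΦinv : ∀ x, Inv T (Φ x) := fun x => inv_sup hU (inv_cyc hf hm (hprops x).1)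
    have hΦC : ∀ x, Φ x ⊓ C = U := fun x => by
      refine le_antisymm ?_ (le_inf le_sup_left le_sup_left)
      rintro w ⟨hw1, hw2⟩
      obtain ⟨u, hu, l, hl, rfl⟩ := Submodule.mem_sup.mp hw1
      have hlC : l ∈ C := by simpa using C.sub_mem hw2 (Submodule.mem_sup_left hu)
      by_cases hl0 : l = 0
      · rw [hl0, add_zero]; exact hu
      · exact absurd (cyc_simple hf (hprops x).1 hC hl hlC hl0 (self_mem_cyc T hf _)) (hprops x).2.2
    have hΦrank : ∀ x, Module.finrank F (Φ x) = Module.finrank F U + f.natDegree := fun x => by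
      have hd0 : U ⊓ cyc T f (v + x.1.1) = ⊥ := by
        rw [eq_bot_iff]
        rintro w ⟨hw1, hw2⟩
        rw [Submodule.mem_bot]
        by_contra hw0
        exact (hprops x).2.2 (cyc_simple hf (hprops x).1 hC hw2 (Submodule.mem_sup_left hw1) hw0 (self_mem_cyc T hf _))
      have := Submodule.finrank_sup_add_finrank_inf_eq U (cyc T f (v + x.1.1))
      rw [hd0, finrank_bot, finrank_cyc hf (hprops x).2.1 (hprops x).1, add_zero] at this
      exact this
    have hrankC : Module.finrank F C + f.natDegree = Module.finrank F V := by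
      have h := Submodule.finrank_sup_add_finrank_inf_eq C L
      have hd0 : C ⊓ L = ⊥ := by
        rw [eq_bot_iff]
        rintro w ⟨hw1, hw2⟩
        rw [Submodule.mem_bot]
        by_contra hw0
        exact hvC (cyc_simple hf hkv hC hw2 hw1 hw0 (self_mem_cyc T hf v))
      rw [hd0, hCL, finrank_top, finrank_bot, add_zero, finrank_cyc hf hv hkv] at h
      omega
    have hval : ∀ x, sig T (Φ x) = val (facs S') := fun x => by
      have hx : IsCompl (Φ x) D' := by
        refine ⟨Submodule.disjoint_def.mpr fun w hw1 hw2 => ?_, codisjoint_iff.mpr (top_le_iff.mp ?_)⟩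
        · have hwU : w ∈ U := hΦC x ▸ Submodule.mem_inf.mpr ⟨hw1, Submodule.mem_sup_right hw2⟩
          exact Submodule.disjoint_def.mp hUD.disjoint w hwU (inf_le_left (b := R) hw2)
        · rw [← hCL, hCdef]
          refine sup_le (sup_le (le_sup_left.trans le_sup_left) le_sup_right) (cyc_le (inv_sup (hΦinv x) hD') ?_)
          have : v = (v + x.1.1) + (-x.1.1) := by abel
          rw [this]
          exact Submodule.add_mem_sup (Submodule.mem_sup_right (self_mem_cyc T hf _)) (D'.neg_mem x.1.2)
      refine ih _ ?_ (hΦinv x) hD' hx rfl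
      have := Submodule.finrank_sup_add_finrank_inf_eq L D'
      rw [hsup, hdj.eq_bot, finrank_bot, add_zero, finrank_cyc hf hv hkv, hk] at this
      have := hf.natDegree_pos
      omega
    haveI := Fintype.ofFinite (LinearMap.ker (aeval S' f))
    have hbij : ∑ W ∈ (Finset.univ.filter (fun W => Inv T W ∧ W ⊓ C = U)).erase U, sig T W =
        ∑ x : LinearMap.ker (aeval S' f), val (facs S') := by
      refine (Finset.sum_bij (fun x _ => Φ x) ?_ ?_ ?_ (fun x _ => (hval x).symm)).symm
      · intro x _
        refine Finset.mem_erase.mpr ⟨fun h => ?_, Finset.mem_filter.mpr ⟨Finset.mem_univ _, hΦinv x, hΦC x⟩⟩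
        have := hΦrank x
        rw [h] at this
        have := hf.natDegree_pos
        omega
      · intro x _ y _ hxy
        have h1 : v + x.1.1 ∈ Φ y := by
          have := Submodule.mem_sup_right (S := U) (self_mem_cyc T hf (v + x.1.1))
          exact hxy ▸ this
        have h2 : v + y.1.1 ∈ Φ y := Submodule.mem_sup_right (self_mem_cyc T hf _)
        have h3 : (x.1.1 : V) - y.1.1 ∈ U := hΦC y ▸ Submodule.mem_inf.mpr
          ⟨by simpa using (Φ y).sub_mem h1 h2, Submodule.mem_sup_right (D'.sub_mem x.1.2 y.1.2)⟩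
        refine Subtype.ext (Subtype.ext (sub_eq_zero.mp ?_))
        exact Submodule.disjoint_def.mp hUD.disjoint _ h3 (D.sub_mem (inf_le_left (b := R) x.1.2) (inf_le_left (b := R) y.1.2))
      · intro W hW
        simp only [Finset.mem_erase, Finset.mem_filter, Finset.mem_univ, true_and] at hW
        obtain ⟨hWU, hWi, hWC⟩ := hW
        have hUW : U ≤ W := hWC ▸ inf_le_left
        have hWtop : W ⊔ C = ⊤ := (hmax _ (inv_sup hWi hC) le_sup_right).resolve_left fun h =>
          hWU (by rw [← hWC, inf_eq_left.mpr (h ▸ le_sup_left)])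
        obtain ⟨a, ha, c, hc, hac⟩ := Submodule.mem_sup.mp (hWtop.symm ▸ Submodule.mem_top : v ∈ W ⊔ C)
        obtain ⟨u, hu, d, hd, rfl⟩ := Submodule.mem_sup.mp hc
        have hmem : v - d ∈ W := by
          have : v - d = a + u := by rw [← hac]; abel
          exact this ▸ W.add_mem ha (hUW hu)
        have hfd : aeval T f d = 0 := by
          have h1 : aeval T f (v - d) ∈ W := aeval_mem hWi _ hmem
          rw [map_sub, hkv, zero_sub, Submodule.neg_mem_iff] at h1
          have h2 : aeval T f d ∈ U := hWC ▸ Submodule.mem_inf.mpr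
            ⟨h1, Submodule.mem_sup_right (aeval_mem hD' _ hd)⟩
          exact Submodule.disjoint_def.mp hUD.disjoint _ h2 (aeval_mem hD _ (inf_le_left (b := R) hd))
        have hxk : (⟨-d, D'.neg_mem hd⟩ : D') ∈ LinearMap.ker (aeval S' f) := by
          rw [LinearMap.mem_ker]
          exact Subtype.ext (by rw [aeval_restrict, map_neg, hfd, neg_zero, Submodule.coe_zero])
        refine ⟨⟨_, hxk⟩, Finset.mem_univ _, Submodule.eq_of_le_of_finrank_eq
          (sup_le hUW (cyc_le hWi (show v + -d ∈ W by rwa [← sub_eq_add_neg]))) ?_⟩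
        rw [hΦrank]
        have := Submodule.finrank_sup_add_finrank_inf_eq W C
        rw [hWtop, hWC, finrank_top] at this
        omega
    rw [hbij, Finset.sum_const, Finset.card_univ, ← Nat.card_eq_fintype_card,
      card_killed (Module.End.IsSemisimple.restrict ((Module.End.mem_invtSubmodule T).mpr hD') hss) hf hm]
    have hfs : facs S = f ::ₘ facs S' := by
      rw [hS, facs_sup hL hD' hD hdj hsup]
      have hkill : ∀ w : L, aeval (LinearMap.restrict T hL) f w = 0 := fun w =>
        Subtype.ext (by rw [aeval_restrict, killed_cyc hkv w.2, Submodule.coe_zero])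
      obtain ⟨h1, h2⟩ := facs_killed hf hm hkill
      rw [show Module.finrank F L = f.natDegree from finrank_cyc hf hv hkv] at h1
      rw [Nat.eq_of_mul_eq_mul_left hf.natDegree_pos (h1.trans (mul_one _).symm)] at h2
      rw [h2, Multiset.replicate_one, Multiset.singleton_add]
    rw [hfs, val_cons, nsmul_eq_mul, Nat.cast_pow]
    exact (neg_mul _ _).symm

end Lattice

end CfsgLib.GLFlags.Chains
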