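/-
Inner products and degrees of the alternating-sum class functions `unipotentCharacterGL`.
-/
import Mathlib
import Cfsg.Agent.Lib.GLFlags.DoubleCoset
import Cfsg.Agent.Lib.GLFlags.Cauchy
import Cfsg.Agent.Lib.GLFlags.Index

namespace CfsgLib.GLFlags

open Cfsg

variable {n : ℕ} {F : Type*} [Field F]

/-- `λ_i = ν_i + i`. -/
def shift (ν : Fin n → ℕ) (i : Fin n) : ℕ := ν i + i.val

theorem shift_strictMono {ν : Fin n → ℕ} (h : Monotone ν) : StrictMono (shift ν) := fun _ _ hab =>
  Nat.add_lt_add_of_le_of_lt (h hab.le) hab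

theorem shift_injective {ν ν' : Fin n → ℕ} (h : shift ν = shift ν') : ν = ν' :=
  funext fun i => Nat.add_right_cancel (congrFun h i)

theorem sum_sub_perm {ν : Fin n → ℕ} (hν : ∑ i, ν i = n) {κ : Equiv.Perm (Fin n)}
    (h : ∀ i, (κ i).val ≤ shift ν i) : ∑ i, (shift ν i - (κ i).val) = n := by
  rw [Finset.sum_tsub_distrib _ fun i _ => h i, Equiv.sum_comp κ (fun i : Fin n => i.val)]
  simp only [shift, Finset.sum_add_distrib, hν, Nat.add_sub_cancel]

/-- Coefficient of a permutation in the alternating sum. -/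
noncomputable def altCoeff (ν : Fin n → ℕ) (κ : Equiv.Perm (Fin n)) : ℂ :=
  if ∀ i, (κ i).val ≤ shift ν i then ((Equiv.Perm.sign κ : ℤ) : ℂ) else 0

theorem unipotentCharacterGL_eq (ν : Fin n → ℕ) :
    unipotentCharacterGL n F ν = ∑ κ : Equiv.Perm (Fin n),
      altCoeff ν κ • fixedPointCharacter (parabolicGL n F fun i => shift ν i - (κ i).val) := by
  funext g
  simp only [unipotentCharacterGL, Finset.sum_apply, Pi.smul_apply, smul_eq_mul, altCoeff, shift]
  refine Finset.sum_congr rfl fun κ _ => ?_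
  by_cases h : ∀ i : Fin n, (κ i).val ≤ ν i + i.val <;> simp [h]

variable [Fintype F]

theorem isGenChar_unipotent (ν : Fin n → ℕ) :
    IsGeneralizedCharacter (GL (Fin n) F) (unipotentCharacterGL n F ν) := by
  classical
  rw [unipotentCharacterGL_eq]
  refine Finset.sum_induction _ (IsGeneralizedCharacter (GL (Fin n) F))
    (fun _ _ => CfsgLib.CharTheory.isGenChar_add) CfsgLib.CharTheory.isGenChar_zero fun κ _ => ?_
  have hfix := CfsgLib.CharTheory.isGenChar_of_char
    (isCharacter_fix (parabolicGL n F fun i => shift ν i - (κ i).val))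
  unfold altCoeff
  split
  · rcases Int.units_eq_one_or (Equiv.Perm.sign κ) with h | h
    · rw [h, Units.val_one, Int.cast_one, one_smul]; exact hfix
    · rw [h, Units.val_neg, Units.val_one, Int.cast_neg, Int.cast_one, neg_one_smul]
      exact CfsgLib.CharTheory.isGenChar_neg hfix
  · rw [zero_smul]; exact CfsgLib.CharTheory.isGenChar_zero

theorem classInner_unipotent [DecidableEq F] {ν ν' : Fin n → ℕ} (hν : ∑ i, ν i = n) (hν' : ∑ i, ν' i = n) :
    classInner (unipotentCharacterGL n F ν) (unipotentCharacterGL n F ν') =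
      (altSum (shift ν) (shift ν') : ℂ) := by
  rw [unipotentCharacterGL_eq, unipotentCharacterGL_eq, CfsgLib.CharTheory.classInner_sum_left, altSum,
    Int.cast_sum]
  refine Finset.sum_congr rfl fun κ _ => ?_
  rw [CfsgLib.CharTheory.classInner_sum_right, Int.cast_sum]
  refine Finset.sum_congr rfl fun κ' _ => ?_
  rw [CfsgLib.CharTheory.classInner_smul_left, CfsgLib.CharTheory.classInner_smul_right, classInner_fix]
  unfold altCoeff
  by_cases h : ∀ i, (κ i).val ≤ shift ν i
  · by_cases h' : ∀ i, (κ' i).val ≤ shift ν' i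
    · rw [if_pos h, if_pos h', if_pos ⟨h, h'⟩, map_intCast,
        card_parabolic_doubleCosets (sum_sub_perm hν h) (sum_sub_perm hν' h')]
      push_cast
      ring
    · simp [h, h']
  · simp [h]

/-- The falling q-factorial. -/
def qFall (q l k : ℕ) : ℕ := ∏ j ∈ Finset.range k, qInt q (l - j)

theorem qFall_mul_qFac (q : ℕ) {l k : ℕ} (h : k ≤ l) : qFall q l k * qFac q (l - k) = qFac q l := by
  induction k with
  | zero => simp [qFall]
  | succ k ih =>
    rw [qFall, Finset.prod_range_succ, ← qFall, mul_assoc, ← ih (by omega),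
      show l - k = (l - (k + 1)) + 1 by omega, qFac_succ]
    ring

theorem qFall_eq_zero (q : ℕ) {l k : ℕ} (h : l < k) : qFall q l k = 0 :=
  Finset.prod_eq_zero (Finset.mem_range.mpr h) (by simp [qInt])

theorem pow_mul_qFall (q l k : ℕ) :
    (q : ℂ) ^ k.choose 2 * (qFall q l k : ℂ) = ∏ j ∈ Finset.range k, ((qInt q l : ℂ) - qInt q j) := by
  induction k with
  | zero => simp [qFall]
  | succ k ih =>
    rw [Finset.prod_range_succ, ← ih, qFall, Finset.prod_range_succ, ← qFall, Nat.choose_succ_succ',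
      Nat.choose_one_right, Nat.cast_mul, pow_add]
    rcases le_or_gt k l with h | h
    · have : (qInt q l : ℂ) = qInt q k + (q : ℂ) ^ k * qInt q (l - k) := by
        have e : qInt q l = qInt q k + q ^ k * qInt q (l - k) := by
          rw [qInt, qInt, qInt, Finset.mul_sum]
          conv_lhs => rw [← Nat.add_sub_cancel' h, Finset.sum_range_add]
          exact congrArg _ (Finset.sum_congr rfl fun j _ => pow_add q k j)
        rw [e]; push_cast; ring
      rw [this]; ring
    · rw [qFall_eq_zero q h]; simp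

theorem sum_choose_two (n : ℕ) : ∑ k ∈ Finset.range n, k.choose 2 = n.choose 3 := by
  induction n with
  | zero => simp
  | succ n ih => rw [Finset.sum_range_succ, ih, Nat.choose_succ_succ' n 2, add_comm]

/-- The degree formula. -/
theorem unipotent_one {ν : Fin n → ℕ} (hν : ∑ i, ν i = n) :
    unipotentCharacterGL n F ν 1 * (Fintype.card F : ℂ) ^ n.choose 3 *
        ∏ i, (qFac (Fintype.card F) (shift ν i) : ℂ) =
      (qFac (Fintype.card F) n : ℂ) * ∏ i : Fin n, ∏ j ∈ Finset.Ioi i,
        ((qInt (Fintype.card F) (shift ν j) : ℂ) - qInt (Fintype.card F) (shift ν i)) := by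
  classical
  set q := Fintype.card F with hq
  have hfix : ∀ H : Subgroup (GL (Fin n) F), fixedPointCharacter H 1 = (Nat.card (GL (Fin n) F ⧸ H) : ℂ) := by
    intro H
    unfold fixedPointCharacter
    rw [Nat.cast_inj]
    exact Nat.card_congr (Equiv.subtypeUnivEquiv fun x => one_smul _ x)
  have hterm : ∀ κ : Equiv.Perm (Fin n),
      altCoeff ν κ * fixedPointCharacter (parabolicGL n F fun i => shift ν i - (κ i).val) 1 *
        (q : ℂ) ^ n.choose 3 * ∏ i, (qFac q (shift ν i) : ℂ) =
      (qFac q n : ℂ) * (((Equiv.Perm.sign κ : ℤ) : ℂ) *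
        ∏ i, ∏ j ∈ Finset.range (κ i).val, ((qInt q (shift ν i) : ℂ) - qInt q j)) := by
    intro κ
    unfold altCoeff
    split
    · next h =>
      have hidx := index_mul_qFac (F := F) (sum_sub_perm hν h)
      rw [← hq] at hidx
      have h2 : ∏ i, (qFac q (shift ν i) : ℂ) =
          (∏ i, (qFall q (shift ν i) (κ i).val : ℂ)) * ∏ i, (qFac q (shift ν i - (κ i).val) : ℂ) := by
        rw [← Finset.prod_mul_distrib]
        exact Finset.prod_congr rfl fun i _ => by rw [← Nat.cast_mul, qFall_mul_qFac q (h i)]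
      have h3 : (q : ℂ) ^ n.choose 3 = ∏ i : Fin n, (q : ℂ) ^ (κ i).val.choose 2 := by
        rw [Finset.prod_pow_eq_pow_sum, Equiv.sum_comp κ (fun i : Fin n => i.val.choose 2),
          Fin.sum_univ_eq_sum_range (fun k => k.choose 2), sum_choose_two]
      rw [hfix, h2, h3, ← Finset.prod_congr rfl fun i _ => pow_mul_qFall q (shift ν i) (κ i).val,
        Finset.prod_mul_distrib, ← hidx]
      push_cast
      ring
    · next h =>
      push Not at h
      obtain ⟨i, hi⟩ := h
      have hz : ∏ i, ∏ j ∈ Finset.range (κ i).val, ((qInt q (shift ν i) : ℂ) - qInt q j) = 0 :=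
        Finset.prod_eq_zero (Finset.mem_univ i) (Finset.prod_eq_zero (Finset.mem_range.mpr hi) (sub_self _))
      rw [hz]
      simp
  rw [unipotentCharacterGL_eq, Finset.sum_apply, Finset.sum_mul, Finset.sum_mul]
  simp only [Pi.smul_apply, smul_eq_mul]
  rw [Finset.sum_congr rfl fun κ _ => hterm κ, ← Finset.mul_sum]
  congr 1
  let p : Fin n → Polynomial ℂ := fun k => ∏ j ∈ Finset.range k.val, (Polynomial.X - Polynomial.C (qInt q j : ℂ))
  have hmon : ∀ k, (p k).Monic := fun k => Polynomial.monic_prod_of_monic _ _ fun j _ => Polynomial.monic_X_sub_C _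
  have hdeg : ∀ k, (p k).natDegree = k.val := fun k => by
    simp only [p]
    rw [Polynomial.natDegree_prod_of_monic _ _ fun j _ => Polynomial.monic_X_sub_C _]
    simp only [Polynomial.natDegree_X_sub_C, Finset.sum_const, Finset.card_range, smul_eq_mul, mul_one]
  have hdet := Matrix.det_eval_matrixOfPolynomials_eq_det_vandermonde
    (fun i => (qInt q (shift ν i) : ℂ)) p hdeg hmon
  rw [Matrix.det_vandermonde, ← Matrix.det_transpose, Matrix.det_apply] at hdet
  rw [hdet]
  refine Finset.sum_congr rfl fun κ _ => ?_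
  rw [Units.smul_def, zsmul_eq_mul]
  congr 1
  refine Finset.prod_congr rfl fun i _ => ?_
  simp [p, Polynomial.eval_prod]

theorem unipotent_one_pos {ν : Fin n → ℕ} (hm : Monotone ν) (hν : ∑ i, ν i = n) :
    0 < (unipotentCharacterGL n F ν 1).re := by
  have h := unipotent_one (F := F) hν
  set q := Fintype.card F with hq
  have hlt : ∀ a b, a < b → qInt q a < qInt q b := by
    intro a b hab
    refine Finset.sum_lt_sum_of_subset (i := a) (Finset.range_mono hab.le) (Finset.mem_range.mpr hab)
      (by simp) (pow_pos Fintype.card_pos _) fun j _ _ => Nat.zero_le _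
  set A : ℝ := (q : ℝ) ^ n.choose 3 * ∏ i, (qFac q (shift ν i) : ℝ) with hA
  set B : ℝ := (qFac q n : ℝ) * ∏ i : Fin n, ∏ j ∈ Finset.Ioi i,
    ((qInt q (shift ν j) : ℝ) - qInt q (shift ν i)) with hB
  have hApos : 0 < A := mul_pos (pow_pos (Nat.cast_pos.mpr Fintype.card_pos) _)
    (Finset.prod_pos fun i _ => Nat.cast_pos.mpr (qFac_pos _ _))
  have hBpos : 0 < B := mul_pos (Nat.cast_pos.mpr (qFac_pos _ _))
    (Finset.prod_pos fun i _ => Finset.prod_pos fun j hj => sub_pos.mpr
      (Nat.cast_lt.mpr (hlt _ _ (shift_strictMono hm (Finset.mem_Ioi.mp hj)))))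
  have hc : unipotentCharacterGL n F ν 1 * (A : ℂ) = (B : ℂ) := by
    rw [hA, hB]
    push_cast
    rw [← h, mul_assoc]
  have hr := congrArg Complex.re hc
  rw [Complex.re_mul_ofReal, Complex.ofReal_re] at hr
  by_contra hle
  push Not at hle
  nlinarith

end CfsgLib.GLFlags
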