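import Mathlib
import Cfsg.Agent.Lib.GLFlags.Unipotent
import Cfsg.Agent.Lib.GLFlags.SteinbergSemisimple

/-!
The Steinberg character of `GL_n(q)` at elements of order prime to the characteristic.
-/

set_option autoImplicit false

namespace CfsgLib.GLFlags.Chains

open Cfsg Matrix
open scoped MatrixGroups

variable {n : ℕ} {F : Type*} [Field F]

/-- The coordinate subspace. -/
def coord (F : Type*) [Field F] (n k : ℕ) : Submodule F (Fin n → F) where
  carrier := {v | ∀ i : Fin n, k ≤ i.val → v i = 0}
  add_mem' := fun {a b} ha hb i hi => by simp [ha i hi, hb i hi]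
  zero_mem' := fun i _ => rfl
  smul_mem' := fun c a ha i hi => by simp [ha i hi]

theorem coord_eq_span (k : ℕ) :
    coord F n k = Submodule.span F ((fun i : Fin n => (Pi.single i 1 : Fin n → F)) '' {i | i.val < k}) := by
  classical
  refine le_antisymm (fun v hv => ?_) (Submodule.span_le.mpr ?_)
  · rw [pi_eq_sum_univ' v]
    refine Submodule.sum_mem _ fun i _ => ?_
    rcases lt_or_ge i.val k with h | h
    · exact Submodule.smul_mem _ _ (Submodule.subset_span ⟨i, h, rfl⟩)
    · rw [hv i h, zero_smul]; exact Submodule.zero_mem _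
  · rintro _ ⟨i, hi, rfl⟩ j hj
    simp only [Set.mem_setOf_eq] at hi
    simp only
    exact Pi.single_eq_of_ne (fun h => by subst h; omega) 1

theorem coord_mono {k l : ℕ} (h : k ≤ l) : coord F n k ≤ coord F n l := fun _ hv i hi => hv i (h.trans hi)

theorem finrank_coord {k : ℕ} (hk : k ≤ n) : Module.finrank F (coord F n k) = k := by
  classical
  rw [coord_eq_span]
  have hli : LinearIndependent F (fun i : {i : Fin n // i.val < k} => (Pi.single i.1 1 : Fin n → F)) :=
    by simpa [Function.comp_def] using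
      (Pi.basisFun F (Fin n)).linearIndependent.comp (Subtype.val : {i : Fin n // i.val < k} → Fin n) Subtype.val_injective
  have hr : (fun i : Fin n => (Pi.single i 1 : Fin n → F)) '' {i | i.val < k} =
      Set.range (fun i : {i : Fin n // i.val < k} => (Pi.single i.1 1 : Fin n → F)) := by
    ext v
    simp [Set.mem_image]
  rw [hr, finrank_span_eq_card hli, Fintype.card_subtype, CfsgLib.GLFlags.card_filter_val_lt hk]

theorem cut_eq_psum (μ : Fin n → ℕ) (b : ℕ) : cut μ b = CfsgLib.GLFlags.psum μ b := rfl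

theorem cut_le {μ : Fin n → ℕ} (hμ : ∑ i, μ i = n) (b : ℕ) : cut μ b ≤ n :=
  le_of_le_of_eq (Finset.sum_le_sum_of_subset (Finset.filter_subset _ _)) hμ

theorem cut_mono (μ : Fin n → ℕ) {a b : ℕ} (h : a ≤ b) : cut μ a ≤ cut μ b := CfsgLib.GLFlags.psum_mono μ h

/-- The action of a matrix. -/
abbrev lin (g : GL (Fin n) F) : Module.End F (Fin n → F) := Matrix.toLinAlgEquiv' g.1

theorem lin_apply (g : GL (Fin n) F) (v : Fin n → F) : lin g v = g.1 *ᵥ v := rfl

theorem lin_mul (g h : GL (Fin n) F) (v : Fin n → F) : lin (g * h) v = lin g (lin h v) := by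
  rw [lin_apply, lin_apply, lin_apply, Matrix.mulVec_mulVec, Units.val_mul]

theorem lin_inv (g : GL (Fin n) F) (v : Fin n → F) : lin g⁻¹ (lin g v) = v := by
  rw [← lin_mul, inv_mul_cancel]; simp

theorem lin_inv' (g : GL (Fin n) F) (v : Fin n → F) : lin g (lin g⁻¹ v) = v := by
  simpa using lin_inv g⁻¹ v

theorem mem_parabolic_iff {μ : Fin n → ℕ} (hμ : ∑ i, μ i = n) {g : GL (Fin n) F} :
    g ∈ parabolicGL n F μ ↔ ∀ b ≤ n, ∀ v ∈ coord F n (cut μ b), lin g v ∈ coord F n (cut μ b) := by
  constructor
  · intro hg b hb v hv i hi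
    exact CfsgLib.GLFlags.parabolic_mulVec hμ hg (b := b)
      (fun j hj => hv j ((CfsgLib.GLFlags.le_compLabel_iff μ j hb).mp hj)) i
      ((CfsgLib.GLFlags.le_compLabel_iff μ i hb).mpr hi)
  · intro h
    rw [CfsgLib.GLFlags.mem_parabolicGL_iff hμ]
    intro i j hij
    have hb : (CfsgLib.GLFlags.label hμ i).val ≤ n := (CfsgLib.GLFlags.label hμ i).2.le
    have hj : j.val < cut μ (CfsgLib.GLFlags.label hμ i).val := by
      by_contra hcon
      have := (CfsgLib.GLFlags.le_compLabel_iff μ j hb).mpr (not_lt.mp hcon)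
      exact absurd this (not_le.mpr (Fin.lt_def.mp hij))
    have := h _ hb (Pi.single j 1) (fun k hk => Pi.single_eq_of_ne (fun e => by subst e; omega) 1) i
      ((CfsgLib.GLFlags.le_compLabel_iff μ i hb).mp le_rfl)
    rwa [lin_apply, Matrix.mulVec_single_one] at this

/-- The image of a coordinate subspace. -/
noncomputable def img (g : GL (Fin n) F) (k : ℕ) : Submodule F (Fin n → F) := (coord F n k).map (lin g)

theorem finrank_img (g : GL (Fin n) F) {k : ℕ} (hk : k ≤ n) : Module.finrank F (img g k) = k := by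
  have hinj : Function.Injective (lin g) := Function.LeftInverse.injective (lin_inv g)
  exact ((Submodule.equivMapOfInjective (lin g) hinj (coord F n k)).finrank_eq).symm.trans (finrank_coord hk)

theorem inv_mul_mem_iff {μ : Fin n → ℕ} (hμ : ∑ i, μ i = n) {a b : GL (Fin n) F} :
    a⁻¹ * b ∈ parabolicGL n F μ ↔ ∀ c ≤ n, img b (cut μ c) ≤ img a (cut μ c) := by
  rw [mem_parabolic_iff hμ]
  constructor
  · rintro h c hc _ ⟨v, hv, rfl⟩
    refine ⟨lin (a⁻¹ * b) v, h c hc v hv, ?_⟩
    rw [lin_mul, lin_inv']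
  · intro h c hc v hv
    obtain ⟨w, hw, he⟩ := h c hc ⟨v, hv, rfl⟩
    rw [lin_mul, ← he, lin_inv]
    exact hw

theorem img_eq_iff {μ : Fin n → ℕ} (hμ : ∑ i, μ i = n) {a b : GL (Fin n) F} :
    a⁻¹ * b ∈ parabolicGL n F μ ↔ ∀ c ≤ n, img a (cut μ c) = img b (cut μ c) := by
  rw [inv_mul_mem_iff hμ]
  exact ⟨fun h c hc => (Submodule.eq_of_le_of_finrank_eq (h c hc)
    (by rw [finrank_img _ (cut_le hμ c), finrank_img _ (cut_le hμ c)])).symm, fun h c hc => (h c hc).ge⟩

theorem fixed_iff {μ : Fin n → ℕ} (hμ : ∑ i, μ i = n) {x g : GL (Fin n) F} :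
    (g⁻¹ * (x * g)) ∈ parabolicGL n F μ ↔ ∀ c ≤ n, Inv (lin x) (img g (cut μ c)) := by
  rw [inv_mul_mem_iff hμ]
  constructor
  · rintro h c hc _ ⟨v, hv, rfl⟩
    rw [← lin_mul]
    exact h c hc ⟨v, hv, rfl⟩
  · rintro h c hc _ ⟨v, hv, rfl⟩
    rw [lin_mul]
    exact h c hc _ ⟨v, hv, rfl⟩

/-- Every chain is the image of a chain of coordinate subspaces. -/
theorem exists_adapted {μ : Fin n → ℕ} (hμ : ∑ i, μ i = n) (U : Fin (n + 1) → Submodule F (Fin n → F))
    (hmono : Monotone U) (hrank : ∀ b : Fin (n + 1), Module.finrank F (U b) = cut μ b.val) :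
    ∃ g : GL (Fin n) F, ∀ b : Fin (n + 1), img g (cut μ b.val) = U b := by
  classical
  have hstep : ∀ b : Fin (n + 1), ∃ e : Fin n → (Fin n → F), ∀ b' ≤ b,
      Submodule.span F (e '' {i | i.val < cut μ b'.val}) = U b' := by
    intro b
    induction b using Fin.induction with
    | zero =>
      refine ⟨fun _ => 0, fun b' hb' => ?_⟩
      obtain rfl := le_antisymm hb' (Fin.zero_le b')
      have h0 := hrank 0
      rw [Fin.val_zero, cut_zero] at h0 ⊢
      simp [Submodule.finrank_eq_zero.mp h0]
    | succ j ih =>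
      obtain ⟨e, he⟩ := ih
      set a := cut μ j.val with ha
      set c := cut μ (j.val + 1) with hc
      have hac : a ≤ c := cut_mono μ (Nat.le_succ _)
      obtain ⟨C0, hC0⟩ := Submodule.exists_isCompl (U j.castSucc)
      have hle : U j.castSucc ≤ U j.succ := hmono (Fin.castSucc_le_succ j)
      set W := C0 ⊓ U j.succ with hW
      have hWsup : U j.castSucc ⊔ W = U j.succ := by
        rw [hW, ← sup_inf_assoc_of_le C0 hle, hC0.sup_eq_top, top_inf_eq]
      have hWrank : Module.finrank F W = c - a := by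
        have h := Submodule.finrank_sup_add_finrank_inf_eq (U j.castSucc) W
        rw [hWsup, (hC0.disjoint.mono_right (inf_le_left : W ≤ C0)).eq_bot, finrank_bot, hrank, hrank,
          Fin.val_succ, Fin.coe_castSucc] at h
        omega
      let w := Module.finBasisOfFinrankEq F W hWrank
      let e' : Fin n → (Fin n → F) := fun i =>
        if h : a ≤ i.val ∧ i.val < c then (w ⟨i.val - a, by omega⟩ : Fin n → F) else e i
      have hsame : ∀ i : Fin n, i.val < a → e' i = e i := fun i hi => dif_neg (fun h => by omega)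
      refine ⟨e', fun b' hb' => ?_⟩
      rcases lt_or_eq_of_le hb' with hlt | rfl
      · have hb'' : b' ≤ j.castSucc := by
          rw [Fin.le_def, Fin.coe_castSucc]; rw [Fin.lt_def, Fin.val_succ] at hlt; omega
        rw [← he b' hb'']
        refine congrArg _ (Set.image_congr fun i hi => hsame i ?_)
        have := cut_mono μ (Fin.le_def.mp hb'')
        simp only [Set.mem_setOf_eq, Fin.coe_castSucc] at hi this
        omega
      · have hold : Submodule.span F (e '' {i | i.val < a}) = U j.castSucc := by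
          simpa using he j.castSucc le_rfl
        rw [Fin.val_succ, ← hc, ← hWsup, ← hold, ← Submodule.map_subtype_top W, ← w.span_eq,
          Submodule.map_span, ← Submodule.span_union]
        refine congrArg _ (Set.ext fun v => ?_)
        simp only [Set.mem_image, Set.mem_setOf_eq, Set.mem_union, Set.mem_range, Submodule.coe_subtype]
        constructor
        · rintro ⟨i, hi, rfl⟩
          rcases lt_or_ge i.val a with h | h
          · exact Or.inl ⟨i, h, (hsame i h).symm⟩
          · exact Or.inr ⟨w (⟨i.val - a, by omega⟩ : Fin (c - a)), ⟨_, rfl⟩, by simp only [e']; rw [dif_pos ⟨h, hi⟩]⟩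
        · rintro (⟨i, hi, rfl⟩ | ⟨_, ⟨k, rfl⟩, rfl⟩)
          · exact ⟨i, by omega, hsame i hi⟩
          · have hlt : a + k.val < n := by have := k.2; have := cut_le hμ (j.val + 1); omega
            refine ⟨⟨a + k.val, hlt⟩, by have := k.2; simp only; omega, ?_⟩
            have hk := k.2
            simp only [e']
            rw [dif_pos ⟨Nat.le_add_right _ _, by omega⟩]
            congr 3
            simp
  obtain ⟨e, he⟩ := hstep (Fin.last n)
  have hn : cut μ n = n := (CfsgLib.GLFlags.psum_self μ).trans hμ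
  have htop : ⊤ ≤ Submodule.span F (Set.range e) := by
    have h := he (Fin.last n) le_rfl
    rw [Fin.val_last, hn, show {i : Fin n | i.val < n} = Set.univ from Set.eq_univ_of_forall fun i => i.2,
      Set.image_univ] at h
    rw [h]
    refine (Submodule.eq_top_of_finrank_eq ?_).ge
    rw [hrank, Fin.val_last, hn, Module.finrank_fin_fun]
  let B := basisOfTopLeSpanOfCardEqFinrank e htop (by rw [Fintype.card_fin, Module.finrank_fin_fun])
  have hB : (B : Fin n → (Fin n → F)) = e := coe_basisOfTopLeSpanOfCardEqFinrank _ _ _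
  haveI : Invertible ((Pi.basisFun F (Fin n)).toMatrix e) := by
    rw [← hB]; exact (Pi.basisFun F (Fin n)).invertibleToMatrix B
  let g : GL (Fin n) F := unitOfInvertible ((Pi.basisFun F (Fin n)).toMatrix e)
  have hg : ∀ i, lin g (Pi.single i 1) = e i := fun i => by
    rw [lin_apply, Matrix.mulVec_single_one]
    rfl
  refine ⟨g, fun b => ?_⟩
  rw [← he b (Fin.le_last b), img, coord_eq_span, Submodule.map_span, Set.image_image]
  exact congrArg _ (Set.image_congr fun i _ => hg i)

section Count

variable [Fintype F]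

theorem card_fixed {μ : Fin n → ℕ} (hμ : ∑ i, μ i = n) (x : GL (Fin n) F) :
    Nat.card (MulAction.fixedBy (GL (Fin n) F ⧸ parabolicGL n F μ) x) =
      Nat.card (ChainSet (lin x) n (⊥ : Submodule F (Fin n → F)) (fun b => skip 0 (cut μ b))) := by
  have hskip : ∀ m, skip 0 m = m := fun m => by unfold skip; split <;> omega
  let Φ : {g : GL (Fin n) F // ∀ c ≤ n, Inv (lin x) (img g (cut μ c))} →
      ChainSet (lin x) n (⊥ : Submodule F (Fin n → F)) (fun b => skip 0 (cut μ b)) := fun g =>
    ⟨fun b => img g.1 (cut μ b.val), by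
        simp only [Fin.val_zero, cut_zero]
        exact Submodule.finrank_eq_zero.mp (finrank_img _ (Nat.zero_le n)),
      fun a b hab => Submodule.map_mono (coord_mono (cut_mono μ (Fin.le_def.mp hab))),
      fun b => g.2 b.val (Nat.lt_succ_iff.mp b.2), fun b => by
        simp only [finrank_bot, zero_add, hskip]
        exact finrank_img _ (cut_le hμ _)⟩
  have hfix : ∀ g : GL (Fin n) F, (QuotientGroup.mk g : GL (Fin n) F ⧸ parabolicGL n F μ) ∈
      MulAction.fixedBy (GL (Fin n) F ⧸ parabolicGL n F μ) x ↔ ∀ c ≤ n, Inv (lin x) (img g (cut μ c)) := fun g => by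
    rw [← fixed_iff hμ, MulAction.mem_fixedBy, MulAction.Quotient.smul_mk, eq_comm]
    exact QuotientGroup.eq
  refine Nat.card_eq_of_bijective (fun q => Φ ⟨q.1.out, (hfix _).mp (by rw [QuotientGroup.out_eq']; exact q.2)⟩) ⟨?_, ?_⟩
  · intro q q' h
    have h1 : ∀ c ≤ n, img q.1.out (cut μ c) = img q'.1.out (cut μ c) := fun c hc =>
      congrFun (congrArg Subtype.val h) ⟨c, Nat.lt_succ_iff.mpr hc⟩
    have h2 := QuotientGroup.eq.mpr ((img_eq_iff hμ).mpr h1)
    rw [QuotientGroup.out_eq', QuotientGroup.out_eq'] at h2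
    exact Subtype.ext h2
  · intro X
    obtain ⟨g, hg⟩ := exists_adapted hμ X.1 X.2.2.1 (fun b => by rw [X.2.2.2.2 b]; simp [hskip])
    have hgx : ∀ c ≤ n, Inv (lin x) (img g (cut μ c)) := fun c hc => by
      have := hg ⟨c, Nat.lt_succ_iff.mpr hc⟩
      simp only at this
      rw [this]
      exact X.2.2.2.1 _
    refine ⟨⟨QuotientGroup.mk g, (hfix g).mpr hgx⟩, Subtype.ext (funext fun b => ?_)⟩
    have hout := QuotientGroup.eq.mp
      (QuotientGroup.out_eq' (QuotientGroup.mk g : GL (Fin n) F ⧸ parabolicGL n F μ))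
    exact ((img_eq_iff hμ).mp hout b.val (Nat.lt_succ_iff.mp b.2)).trans (hg b)

theorem unipotent_ones_eq (x : GL (Fin n) F) :
    unipotentCharacterGL n F (fun _ => 1) x = (K (lin x) n 0 (⊥ : Submodule F (Fin n → F)) : ℂ) := by
  classical
  rw [unipotentCharacterGL, K, Int.cast_sum]
  refine Finset.sum_congr rfl fun κ _ => ?_
  by_cases h : Adm κ
  · have h' : ∀ i : Fin n, (κ i).val ≤ 1 + i.val := fun i => by have := h i; omega
    have hμ : ∑ i, (1 + i.val - (κ i).val) = n := CfsgLib.GLFlags.sum_sub_perm (ν := fun _ => 1) (by simp) h'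
    have he : (fun i : Fin n => 1 + i.val - (κ i).val) = comp κ := funext fun i => by
      simp only [comp]; omega
    rw [if_pos h', if_pos h, fixedPointCharacter, card_fixed hμ x, he]
    push_cast
    rfl
  · rw [if_neg h, if_neg fun h' => h fun i => (h' i).trans_eq (add_comm _ _), Int.cast_zero]

/-- The value formula. -/
theorem steinberg_value [DecidableEq F] (p : ℕ) [Fact p.Prime] [CharP F p] (x : GL (Fin n) F)
    (hx : (orderOf x).Coprime p) :
    unipotentCharacterGL n F (fun _ => 1) x =
      ∏ f ∈ (UniqueFactorizationMonoid.normalizedFactors (x : Matrix (Fin n) (Fin n) F).charpoly).toFinset,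
        (-1 : ℂ) ^ ((f.natDegree - 1) * (UniqueFactorizationMonoid.normalizedFactors (x : Matrix (Fin n) (Fin n) F).charpoly).count f) *
          (Fintype.card F : ℂ) ^ (f.natDegree * (UniqueFactorizationMonoid.normalizedFactors (x : Matrix (Fin n) (Fin n) F).charpoly).count f *
            ((UniqueFactorizationMonoid.normalizedFactors (x : Matrix (Fin n) (Fin n) F).charpoly).count f - 1) / 2) := by
  classical
  have hss := CfsgLib.SemisimpleClasses.isSemisimple_of_coprime x hx
  have hB : Inv (lin x) (⊥ : Submodule F (Fin n → F)) := fun v hv => by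
    rw [Submodule.mem_bot] at hv ⊢; simp [hv]
  have hT : Inv (lin x) (⊤ : Submodule F (Fin n → F)) := fun _ _ => trivial
  have h1 := sig_eq_val (T := lin x) hss _ hB hT isCompl_bot_top rfl
  have hfac : facs (LinearMap.restrict (lin x) hT) =
      UniqueFactorizationMonoid.normalizedFactors (x : Matrix (Fin n) (Fin n) F).charpoly := by
    have hcp : (LinearMap.restrict (lin x) hT).charpoly = (x : Matrix (Fin n) (Fin n) F).charpoly := by
      have he : (Submodule.topEquiv (R := F) (M := Fin n → F)).conj (LinearMap.restrict (lin x) hT) = lin x :=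
        LinearMap.ext fun v => rfl
      rw [← LinearEquiv.charpoly_conj Submodule.topEquiv, he, ← LinearMap.charpoly_toMatrix _ (Pi.basisFun F (Fin n))]
      congr 1
      rw [LinearMap.toMatrix_eq_toMatrix']
      exact LinearMap.toMatrix'_toLin' x.1
    unfold facs
    rw [hcp]
    congr!
  rw [sig, finrank_bot, Nat.sub_zero, Module.finrank_fin_fun, hfac] at h1
  set s := UniqueFactorizationMonoid.normalizedFactors (x : Matrix (Fin n) (Fin n) F).charpoly with hs
  have hdeg : (s.map Polynomial.natDegree).sum = n := by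
    have hp := Polynomial.leadingCoeff_mul_prod_normalizedFactors (x : Matrix (Fin n) (Fin n) F).charpoly
    rw [(Matrix.charpoly_monic _).leadingCoeff, Polynomial.C_1, one_mul, ← hs] at hp
    have h0 : (0 : Polynomial F) ∉ s := UniqueFactorizationMonoid.zero_notMem_normalizedFactors _
    rw [← Polynomial.natDegree_multiset_prod _ h0, hp, Matrix.charpoly_natDegree_eq_dim, Fintype.card_fin]
  have hK : K (lin x) n 0 (⊥ : Submodule F (Fin n → F)) = (-1) ^ n * val s := by
    rw [← h1, ← mul_assoc, ← mul_pow]; simp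
  have hv : val s = ∏ f ∈ s.toFinset, (-1 : ℤ) ^ s.count f *
      ((Fintype.card F : ℤ) ^ f.natDegree) ^ (s.count f).choose 2 := by
    unfold val; congr!
  rw [unipotent_ones_eq, hK, ← hdeg, Finset.sum_multiset_map_count, ← Finset.prod_pow_eq_pow_sum, hv,
    Int.cast_mul, Int.cast_prod, Int.cast_prod, ← Finset.prod_mul_distrib]
  refine Finset.prod_congr (by congr!) fun f hf => ?_
  rw [Multiset.mem_toFinset] at hf
  have hd : 1 ≤ f.natDegree := (UniqueFactorizationMonoid.irreducible_of_normalized_factor f hf).natDegree_pos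
  obtain ⟨d, hd'⟩ := Nat.exists_eq_add_of_le hd
  rw [smul_eq_mul, hd', add_tsub_cancel_left, Nat.mul_assoc (1 + d), Nat.mul_div_assoc _ (Nat.even_mul_pred_self _).two_dvd,
    ← Nat.choose_two_right]
  push_cast
  rw [← mul_assoc, ← pow_add, ← pow_mul]
  congr 1
  rw [show s.count f * (1 + d) + s.count f = d * s.count f + 2 * s.count f by ring, pow_add _ (d * s.count f), pow_mul _ 2, neg_one_sq,
    one_pow, mul_one]

end Count

end CfsgLib.GLFlags.Chains
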